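import Cfsg.Agent.Lib.Helper12.Ord.Fi23Transp

/-!
A word in the generators of the presented group Fi23 and the further elements of the straight line program is trivial
if it fixes the ten points of the generators in the permutation representation of degree `31671`: it commutes with the
generators, and the centre is trivial (helper12).
-/

set_option autoImplicit false
set_option maxRecDepth 100000

namespace Cfsg.Agent.Lib.Helper12.SylFi23.Base

open Cfsg.Spor Cfsg.Agent.Lib.Helper12.TC Cfsg.Agent.Lib.Helper12.TC.Fi23o31671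
  Cfsg.Agent.Lib.Helper12.TC.Fi23Pres Cfsg.Agent.Lib.Helper12.Ord
  Cfsg.Agent.Lib.Helper12.Ord.Fi23Simple Cfsg.Agent.Lib.Helper12.Ord.Fi23Transp

/-- the word which conjugates the central element of the subgroup to the eighth generator -/
def w7 : List ℕ := [6, 5, 4, 3, 8, 2, 3, 4, 1, 2, 3, 8, 5, 6, 4, 5, 3, 4, 2, 3, 8, 1, 2, 3, 4, 5, 6, 7]

/-- the words which conjugate the central element of the subgroup to the generators -/
def cw : ℕ → List ℕ
  | 0 => [1, 0, 2, 1, 3, 2, 4, 3, 5, 4, 6, 5, 7, 6] ++ w7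
  | 1 => [2, 1, 3, 2, 4, 3, 5, 4, 6, 5, 7, 6] ++ w7
  | 2 => [3, 2, 4, 3, 5, 4, 6, 5, 7, 6] ++ w7
  | 3 => [4, 3, 5, 4, 6, 5, 7, 6] ++ w7
  | 4 => [5, 4, 6, 5, 7, 6] ++ w7
  | 5 => [6, 5, 7, 6] ++ w7
  | 6 => [7, 6] ++ w7
  | 7 => w7
  | 8 => [3, 8, 4, 3, 5, 4, 6, 5, 7, 6] ++ w7
  | 9 => [8, 9, 3, 8, 4, 3, 5, 4, 6, 5, 7, 6] ++ w7
  | _ => []

/-- the points of the generators -/
def qpts : List ℕ := [30560, 29986, 29985, 29982, 29983, 29984, 29987, 5385, 29981, 29988]

theorem cw_lt : ∀ k < 10, ∀ s ∈ cw k, s < 10 := by decide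

theorem qpts_lt : ∀ q ∈ qpts, q < cN := by decide

theorem cw_pt : ∀ k < 10, Fn.applyW TT (cw k) 0 = qpts.getD k 0 := by decide +kernel

theorem conj7 : v 7 = wprod v w7 * tt * (wprod v w7)⁻¹ := by
  have h := tt_eq
  show v 7 = wprod v [6, 5, 4, 3, 8, 2, 3, 4, 1, 2, 3, 8, 5, 6, 4, 5, 3, 4, 2, 3, 8, 1, 2, 3, 4, 5, 6, 7] * tt *
    (wprod v [6, 5, 4, 3, 8, 2, 3, 4, 1, 2, 3, 8, 5, 6, 4, 5, 3, 4, 2, 3, 8, 1, 2, 3, 4, 5, 6, 7])⁻¹
  rw [h]
  group

/-- a step along an edge of the graph -/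
theorem conj_step {x y : ℕ} (h3 : (v x * v y) ^ 3 = 1) {c : List ℕ}
    (hx : v x = wprod v c * tt * (wprod v c)⁻¹) :
    v y = wprod v (x :: y :: c) * tt * (wprod v (x :: y :: c))⁻¹ := by
  have h := conj_eq_of_braid (v x) (v y) (hvsq x) (hvsq y) h3
  rw [wprod_cons, wprod_cons]
  have e : v x * (v y * wprod v c) * tt * (v x * (v y * wprod v c))⁻¹ =
      (v x * v y) * (wprod v c * tt * (wprod v c)⁻¹) * (v x * v y)⁻¹ := by group
  rw [e, ← hx, h]

theorem braid_v (x y : ℕ) (h : coxLabel Cfsg.Spor.Fi23.edges (gen x) (gen y) = 3) : (v x * v y) ^ 3 = 1 :=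
  hbraid (gen x) (gen y) h

/-- the generators are conjugates of the central element of the subgroup -/
theorem conj_gen : ∀ k < 10, v k = wprod v (cw k) * tt * (wprod v (cw k))⁻¹ := by
  have h7 : v 7 = wprod v (cw 7) * tt * (wprod v (cw 7))⁻¹ := conj7
  have h6 : v 6 = wprod v (cw 6) * tt * (wprod v (cw 6))⁻¹ := conj_step (braid_v 7 6 (by decide)) h7
  have h5 : v 5 = wprod v (cw 5) * tt * (wprod v (cw 5))⁻¹ := conj_step (braid_v 6 5 (by decide)) h6
  have h4 : v 4 = wprod v (cw 4) * tt * (wprod v (cw 4))⁻¹ := conj_step (braid_v 5 4 (by decide)) h5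
  have h3 : v 3 = wprod v (cw 3) * tt * (wprod v (cw 3))⁻¹ := conj_step (braid_v 4 3 (by decide)) h4
  have h2 : v 2 = wprod v (cw 2) * tt * (wprod v (cw 2))⁻¹ := conj_step (braid_v 3 2 (by decide)) h3
  have h8 : v 8 = wprod v (cw 8) * tt * (wprod v (cw 8))⁻¹ := conj_step (braid_v 3 8 (by decide)) h3
  have h1 : v 1 = wprod v (cw 1) * tt * (wprod v (cw 1))⁻¹ := conj_step (braid_v 2 1 (by decide)) h2
  have h9 : v 9 = wprod v (cw 9) * tt * (wprod v (cw 9))⁻¹ := conj_step (braid_v 8 9 (by decide)) h8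
  have h0 : v 0 = wprod v (cw 0) * tt * (wprod v (cw 0))⁻¹ := conj_step (braid_v 1 0 (by decide)) h1
  intro k hk
  interval_cases k
  · exact h0
  · exact h1
  · exact h2
  · exact h3
  · exact h4
  · exact h5
  · exact h6
  · exact h7
  · exact h8
  · exact h9

/-- the elements which fix the first point are in the subgroup -/
theorem mem_Hs_of_fix (γ : PresentedGroup R) (h : rho γ ⟨0, hN0⟩ = ⟨0, hN0⟩) : γ ∈ Hs := by
  obtain ⟨Φ, hΦ⟩ := rho_equiv
  have h1 : Φ (γ : PresentedGroup R ⧸ Hs) = Φ ((1 : PresentedGroup R) : PresentedGroup R ⧸ Hs) := by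
    rw [hΦ, hΦ, h, map_one, Equiv.Perm.one_apply]
  have h2 := Φ.injective h1
  have h3 : (1 : PresentedGroup R)⁻¹ * γ ∈ Hs := QuotientGroup.eq.mp h2.symm
  simpa using h3

/-- an element which fixes the point of a generator commutes with the generator -/
theorem comm_of_fix (g : PresentedGroup R) {k : ℕ} (hk : k < 10)
    (h : rho g (rho (wprod v (cw k)) ⟨0, hN0⟩) = rho (wprod v (cw k)) ⟨0, hN0⟩) : g * v k = v k * g := by
  have h1 : rho ((wprod v (cw k))⁻¹ * g * wprod v (cw k)) ⟨0, hN0⟩ = ⟨0, hN0⟩ := by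
    rw [map_mul, map_mul, Equiv.Perm.mul_apply, Equiv.Perm.mul_apply, h, map_inv]
    exact Equiv.Perm.inv_eq_iff_eq.mpr rfl
  have h2 := central _ (mem_Hs_of_fix _ h1)
  rw [conj_gen k hk]
  have e : g * (wprod v (cw k) * tt * (wprod v (cw k))⁻¹) =
      wprod v (cw k) * ((wprod v (cw k))⁻¹ * g * wprod v (cw k) * tt) * (wprod v (cw k))⁻¹ := by group
  rw [e, h2]
  group

/-- an element which commutes with the generators is trivial -/
theorem eq_one_of_comm (g : PresentedGroup R) (h : ∀ k < 10, g * v k = v k * g) : g = 1 := by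
  have hc : g ∈ Subgroup.center (PresentedGroup R) := by
    rw [Subgroup.mem_center_iff]
    intro x
    have hx : x ∈ Subgroup.closure (Set.range fun y : Cfsg.Spor.Fi23.Gen => PresentedGroup.mk R (FreeGroup.of y)) := by
      have : Subgroup.closure (Set.range fun y : Cfsg.Spor.Fi23.Gen => PresentedGroup.mk R (FreeGroup.of y)) = ⊤ := by
        have h1 := PresentedGroup.closure_range_of R
        exact h1
      rw [this]
      trivial
    refine Subgroup.closure_induction (p := fun x _ => x * g = g * x) ?_ ?_ ?_ ?_ hx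
    · rintro _ ⟨y, rfl⟩
      obtain ⟨hy1, hy2⟩ := hidx y
      have := h (idx y) hy1
      show PresentedGroup.mk R (FreeGroup.of y) * g = g * PresentedGroup.mk R (FreeGroup.of y)
      have e : v (idx y) = PresentedGroup.mk R (FreeGroup.of y) := by
        show PresentedGroup.mk R (FreeGroup.of (gen (idx y))) = _
        rw [hy2]
      rw [← e]
      exact this.symm
    · rw [one_mul, mul_one]
    · intro a b _ _ ha hb
      rw [mul_assoc, hb, ← mul_assoc, ha, mul_assoc]
    · intro a _ ha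
      have : a⁻¹ * (a * g) * a⁻¹ = a⁻¹ * (g * a) * a⁻¹ := by rw [ha]
      have h2 : g * a⁻¹ = a⁻¹ * g := by simpa [mul_assoc] using this
      exact h2.symm
  rw [center_eq_bot, Subgroup.mem_bot] at hc
  exact hc

/-- a word which fixes the ten points of the generators is trivial -/
theorem wprod_eq_one_of_fix (w : List ℕ) (hw : ∀ s ∈ w, s < 27)
    (h : ∀ q ∈ qpts, Fn.applyW TT w q = q) : wprod uu w = 1 := by
  apply eq_one_of_comm
  intro k hk
  apply comm_of_fix _ hk
  apply Fin.ext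
  have hq : qpts.getD k 0 ∈ qpts := by
    have : k < qpts.length := hk
    rw [List.getD_eq_getElem _ _ this]
    exact List.getElem_mem this
  have e : ((rho (wprod v (cw k)) ⟨0, hN0⟩ : Fin cN) : ℕ) = qpts.getD k 0 := by
    rw [Fn.rho_word v rho rho_v (cw k) (cw_lt k hk)]
    exact cw_pt k hk
  rw [Fn.rho_word uu rho rho_uu w hw, e]
  exact h _ hq

end Cfsg.Agent.Lib.Helper12.SylFi23.Base
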