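import Mathlib

/-!
The order of a subgroup is the order of its intersection with the kernel of a homomorphism times the order of its image
(helper12).
-/

set_option autoImplicit false

namespace Cfsg.Agent.Lib.Helper12.SylFi23.CardMap

theorem card_eq_card_inf_ker_mul_card_map {G H : Type*} [Group G] [Group H] (f : G →* H) (A : Subgroup G) :
    Nat.card ↥A = Nat.card ↥(A ⊓ f.ker) * Nat.card ↥(A.map f) := by
  have h1 : Nat.card ↥A = Nat.card (↥A ⧸ (f.comp A.subtype).ker) * Nat.card ↥(f.comp A.subtype).ker :=
    Subgroup.card_eq_card_quotient_mul_card_subgroup _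
  have h2 : Nat.card (↥A ⧸ (f.comp A.subtype).ker) = Nat.card ↥(f.comp A.subtype).range :=
    Nat.card_congr (QuotientGroup.quotientKerEquivRange (f.comp A.subtype)).toEquiv
  have h3 : (f.comp A.subtype).range = A.map f := by
    rw [MonoidHom.range_comp, Subgroup.range_subtype]
  have h4 : (f.comp A.subtype).ker = (A ⊓ f.ker).subgroupOf A := by
    rw [Subgroup.inf_subgroupOf_left]
    rfl
  have h5 : Nat.card ↥((A ⊓ f.ker).subgroupOf A) = Nat.card ↥(A ⊓ f.ker) :=
    Nat.card_congr (Subgroup.subgroupOfEquivOfLe inf_le_left).toEquiv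
  rw [h1, h2, h3, h4, h5, Nat.mul_comm]

end Cfsg.Agent.Lib.Helper12.SylFi23.CardMap
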