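import Mathlib
import Cfsg.Prelude.Def_Transfer

/-!
The normal elementary abelian subgroups of a subgroup: the transport of the statement on the subgroups of the largest
order along an injective homomorphism and to the conjugate Sylow subgroups (helper12).
-/

set_option autoImplicit false

namespace Cfsg.Agent.Lib.Helper12.SylFi23.Transport

open scoped Pointwise

universe u

/-- a subgroup of `T` which is normal in `T` and elementary abelian -/
def NEA {G : Type u} [Group G] (T A : Subgroup G) : Prop :=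
  A ≤ T ∧ (A.subgroupOf T).Normal ∧ Cfsg.IsElementaryAbelian 2 A

theorem isMulCommutative_iff {G : Type u} [Group G] (A : Subgroup G) :
    IsMulCommutative ↥A ↔ ∀ a ∈ A, ∀ b ∈ A, a * b = b * a := by
  constructor
  · intro h a ha b hb
    have := h.is_comm.comm (⟨a, ha⟩ : ↥A) ⟨b, hb⟩
    exact congrArg Subtype.val this
  · intro h
    exact ⟨⟨fun a b => Subtype.ext (h a.1 a.2 b.1 b.2)⟩⟩

theorem nea_iff {G : Type u} [Group G] (T A : Subgroup G) :
    NEA T A ↔ A ≤ T ∧ (∀ t ∈ T, ∀ a ∈ A, t * a * t⁻¹ ∈ A) ∧ (∀ a ∈ A, ∀ b ∈ A, a * b = b * a) ∧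
      ∀ a ∈ A, a ^ 2 = 1 := by
  unfold NEA Cfsg.IsElementaryAbelian
  constructor
  · rintro ⟨h1, h2, h3, h4⟩
    refine ⟨h1, ?_, (isMulCommutative_iff A).mp h3, h4⟩
    intro t ht a ha
    exact (Subgroup.normal_subgroupOf_iff h1).mp h2 a t ha ht
  · rintro ⟨h1, h2, h3, h4⟩
    refine ⟨h1, ?_, (isMulCommutative_iff A).mpr h3, h4⟩
    exact (Subgroup.normal_subgroupOf_iff h1).mpr (fun a t ha ht => h2 t ht a ha)

/-- the property of the statement -/
def Good {G : Type u} [Group G] (T : Subgroup G) : Prop :=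
  (∀ A : Subgroup G, A ≤ T → (A.subgroupOf T).Normal → Cfsg.IsElementaryAbelian 2 A → Nat.card A ≤ 2 ^ 11) ∧
  ∃! A : Subgroup G, A ≤ T ∧ (A.subgroupOf T).Normal ∧ Cfsg.IsElementaryAbelian 2 A ∧ Nat.card A = 2 ^ 11

theorem good_iff {G : Type u} [Group G] (T : Subgroup G) :
    Good T ↔ (∀ A : Subgroup G, NEA T A → Nat.card A ≤ 2 ^ 11) ∧
      ∃ A0 : Subgroup G, (NEA T A0 ∧ Nat.card A0 = 2 ^ 11) ∧
        ∀ A : Subgroup G, NEA T A → Nat.card A = 2 ^ 11 → A = A0 := by
  unfold Good NEA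
  constructor
  · rintro ⟨h1, A0, ⟨h2, h3, h4, h5⟩, h6⟩
    exact ⟨fun A hA => h1 A hA.1 hA.2.1 hA.2.2, A0, ⟨⟨h2, h3, h4⟩, h5⟩,
      fun A hA hc => h6 A ⟨hA.1, hA.2.1, hA.2.2, hc⟩⟩
  · rintro ⟨h1, A0, ⟨⟨h2, h3, h4⟩, h5⟩, h6⟩
    exact ⟨fun A a b c => h1 A ⟨a, b, c⟩, A0, ⟨h2, h3, h4, h5⟩,
      fun A hA => h6 A ⟨hA.1, hA.2.1, hA.2.2.1⟩ hA.2.2.2⟩

variable {E G : Type u} [Group E] [Group G]

theorem nea_map (f : E →* G) (hf : Function.Injective f) {T A : Subgroup E} (h : NEA T A) :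
    NEA (T.map f) (A.map f) := by
  rw [nea_iff] at h ⊢
  obtain ⟨h1, h2, h3, h4⟩ := h
  refine ⟨Subgroup.map_mono h1, ?_, ?_, ?_⟩
  · rintro _ ⟨t, ht, rfl⟩ _ ⟨a, ha, rfl⟩
    exact ⟨t * a * t⁻¹, h2 t ht a ha, by simp⟩
  · rintro _ ⟨a, ha, rfl⟩ _ ⟨b, hb, rfl⟩
    rw [← map_mul, ← map_mul, h3 a ha b hb]
  · rintro _ ⟨a, ha, rfl⟩
    rw [← map_pow, h4 a ha, map_one]

theorem nea_comap (f : E →* G) (hf : Function.Injective f) {T : Subgroup E} {A : Subgroup G}
    (h : NEA (T.map f) A) : NEA T (A.comap f) := by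
  rw [nea_iff] at h ⊢
  obtain ⟨h1, h2, h3, h4⟩ := h
  refine ⟨?_, ?_, ?_, ?_⟩
  · have := Subgroup.comap_mono (f := f) h1
    rwa [Subgroup.comap_map_eq_self_of_injective hf] at this
  · intro t ht a ha
    rw [Subgroup.mem_comap] at ha ⊢
    rw [map_mul, map_mul, map_inv]
    exact h2 (f t) (Subgroup.mem_map_of_mem f ht) (f a) ha
  · intro a ha b hb
    apply hf
    rw [map_mul, map_mul]
    exact h3 (f a) ha (f b) hb
  · intro a ha
    apply hf
    rw [map_pow, map_one]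
    exact h4 (f a) ha

theorem map_comap_of_nea (f : E →* G) {T : Subgroup E} {A : Subgroup G} (h : NEA (T.map f) A) :
    (A.comap f).map f = A := by
  apply Subgroup.map_comap_eq_self
  refine le_trans h.1 ?_
  rintro _ ⟨t, _, rfl⟩
  exact ⟨t, rfl⟩

theorem card_map (f : E →* G) (hf : Function.Injective f) (A : Subgroup E) :
    Nat.card ↥(A.map f) = Nat.card ↥A :=
  (Nat.card_congr (A.equivMapOfInjective f hf).toEquiv).symm

/-- the transport of the statement along an injective homomorphism -/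
theorem good_map (f : E →* G) (hf : Function.Injective f) (T : Subgroup E) (h : Good T) : Good (T.map f) := by
  rw [good_iff] at h ⊢
  obtain ⟨h1, A0, ⟨h2, h3⟩, h4⟩ := h
  refine ⟨?_, A0.map f, ⟨nea_map f hf h2, by rw [card_map f hf, h3]⟩, ?_⟩
  · intro A hA
    have := h1 _ (nea_comap f hf hA)
    rwa [← card_map f hf, map_comap_of_nea f hA] at this
  · intro A hA hc
    have e := map_comap_of_nea f hA
    have := h4 _ (nea_comap f hf hA) (by rw [← card_map f hf, e, hc])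
    rw [← e, this]

/-- the statement for the conjugates of the image of a subgroup under an injective homomorphism -/
theorem good_sylow [Finite G] (f : E →* G) (hf : Function.Injective f) (T0 : Subgroup E) (h : Good T0)
    (S0 : Sylow 2 G) (hS0 : (S0 : Subgroup G) = T0.map f) (T : Sylow 2 G) : Good (T : Subgroup G) := by
  have : Fact (Nat.Prime 2) := ⟨Nat.prime_two⟩
  obtain ⟨g, hg⟩ := MulAction.exists_smul_eq G S0 T
  have e : (T : Subgroup G) = T0.map ((MulAut.conj g).toMonoidHom.comp f) := by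
    rw [← hg, Sylow.coe_subgroup_smul, hS0]
    ext x
    constructor
    · intro hx
      obtain ⟨s, hs, rfl⟩ := (Subgroup.mem_smul_pointwise_iff_exists _ _ _).mp hx
      obtain ⟨t, ht, rfl⟩ := hs
      exact ⟨t, ht, rfl⟩
    · rintro ⟨t, ht, rfl⟩
      exact (Subgroup.mem_smul_pointwise_iff_exists _ _ _).mpr ⟨f t, ⟨t, ht, rfl⟩, rfl⟩
  rw [e]
  apply good_map _ _ T0 h
  intro a b hab
  exact hf ((MulAut.conj g).injective hab)

end Cfsg.Agent.Lib.Helper12.SylFi23.Transport
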