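import Cfsg.Agent.Lib.Helper12.SylFi23.FixChk
import Cfsg.Agent.Lib.Helper12.SylFi23.Transport
import Cfsg.Agent.Lib.Helper12.SylFi23.CardMap

/-!
The normal elementary abelian subgroups of a Sylow `2`-subgroup of the presented extension of the group of Mathieu of
degree `23`: they are contained in the normal subgroup of order `2 ^ 11`, or their order is at most `2 ^ 10` (helper12).
-/

set_option autoImplicit false
set_option maxRecDepth 100000

namespace Cfsg.Agent.Lib.Helper12.SylFi23.Core

open Cfsg Cfsg.Agent.Lib.Helper12.Golay Cfsg.Agent.Lib.Helper12.TC Cfsg.Agent.Lib.helper4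
  Cfsg.Agent.Lib.Helper12.M23Ext Cfsg.Agent.Lib.Helper12.M23Ext.ERel
  Cfsg.Agent.Lib.Helper12.M23Ext.Theta Cfsg.Agent.Lib.Helper12.M23Ext.Psi
  Cfsg.Agent.Lib.Helper12.SylFi23.TBarData Cfsg.Agent.Lib.Helper12.SylFi23.TBar Cfsg.Agent.Lib.Helper12.SylFi23.Nu
  Cfsg.Agent.Lib.Helper12.SylFi23.FixChk

/-- the Sylow subgroup of the extension -/
noncomputable def Ttil : Subgroup EPres.Grp := Tbar.comap psi

theorem D_le_Ttil : D ≤ Ttil := by
  intro d hd
  rw [Ttil, Subgroup.mem_comap]
  have h : psi d = 1 := by
    rw [← MonoidHom.mem_ker, Kernel.ker_eq]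
    exact hd
  rw [h]
  exact Subgroup.one_mem _

theorem map_Ttil : Ttil.map psi = Tbar := by
  apply Subgroup.map_comap_eq_self
  rw [range_psi]
  exact Tbar_le_M23

theorem card_Ttil : Nat.card ↥Ttil = 2 ^ 18 := by
  rw [CardMap.card_eq_card_inf_ker_mul_card_map psi Ttil, map_Ttil, card_Tbar, Kernel.ker_eq,
    inf_eq_right.mpr D_le_Ttil, card_D]
  norm_num

theorem isInvTable_el_inv {i : ℕ} (hi : i < 35) : IsInvTable (el (inv i)) (tbl (inv i)) := by
  have hv := valid_tb (cls_ok i hi).1
  have h1 : el (inv i) = permT (tbl (inv i)) := by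
    have h2 : (el (inv i))⁻¹ = el (inv i) := inv_eq_of_mul_eq_one_right (el_inv_sq hi)
    rw [← h2]
    exact inv_inv _
  rw [h1]
  exact isInvTable_permT hv

/-- the normal elementary abelian subgroups are small or in the normal subgroup -/
theorem le_D_or_card_le {A : Subgroup EPres.Grp} (hA : Transport.NEA Ttil A) :
    A ≤ D ∨ Nat.card ↥A ≤ 2 ^ 10 := by
  rw [Transport.nea_iff] at hA
  obtain ⟨hle, hnorm, hcomm, hsq⟩ := hA
  by_cases hB : A.map psi = ⊥
  · left
    intro a ha
    rw [← Kernel.ker_eq, MonoidHom.mem_ker]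
    have h : psi a ∈ A.map psi := Subgroup.mem_map_of_mem psi ha
    rw [hB, Subgroup.mem_bot] at h
    exact h
  · right
    have hBT : ∀ b ∈ A.map psi, b ∈ Tbar := by
      rintro _ ⟨a, ha, rfl⟩
      exact hle ha
    have hBsq : ∀ b ∈ A.map psi, b * b = 1 := by
      rintro _ ⟨a, ha, rfl⟩
      rw [← map_mul, ← pow_two, hsq a ha, map_one]
    have hBnorm : ∀ τ ∈ Tbar, ∀ b ∈ A.map psi, τ * b * τ⁻¹ ∈ A.map psi := by
      intro τ hτ b hb
      obtain ⟨a, ha, rfl⟩ := hb
      have hτ' : τ ∈ Ttil.map psi := by rw [map_Ttil]; exact hτ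
      obtain ⟨t, ht, rfl⟩ := hτ'
      exact ⟨t * a * t⁻¹, hnorm t ht a ha, by rw [map_mul, map_mul, map_inv]⟩
    obtain ⟨m, hm, hmc⟩ := exists_mask 7 (fun c => el (rep c) ∈ A.map psi)
    have hm128 : m < 128 := by
      have e : (2 : ℕ) ^ 7 = 128 := by norm_num
      rw [e] at hm
      exact hm
    have hS : ∀ i < 35, (m.testBit (cls i) = true ↔ el (inv i) ∈ A.map psi) := by
      intro i hi
      have hc7 : cls i < 7 := (cls_ok i hi).2.2.2.1
      rw [hmc _ hc7]
      show el (rep (cls i)) ∈ A.map psi ↔ _
      rw [← conj_rep hi]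
      have hcj : el (cj i) ∈ Tbar := el_mem _ (cls_ok i hi).2.1
      constructor
      · intro h
        have h1 := hBnorm _ (Subgroup.inv_mem _ hcj) _ h
        have e : (el (cj i))⁻¹ * (el (cj i) * el (inv i) * (el (cj i))⁻¹) * (el (cj i))⁻¹⁻¹ = el (inv i) := by
          group
        rwa [e] at h1
      · intro h
        exact hBnorm _ hcj _ h
    have hBsub : ∀ b ∈ A.map psi, b = 1 ∨ ∃ i < 35, m.testBit (cls i) = true ∧ b = el (inv i) := by
      intro b hb
      rcases involution_cases (hBT b hb) (hBsq b hb) with h | ⟨i, hi, h⟩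
      · exact Or.inl h
      · exact Or.inr ⟨i, hi, (hS i hi).mpr (h ▸ hb), h⟩
    have hm0 : m ≠ 0 := by
      intro h0
      apply hB
      rw [Subgroup.eq_bot_iff_forall]
      intro b hb
      rcases hBsub b hb with h | ⟨i, _, hbit, _⟩
      · exact h
      · rw [h0, Nat.zero_testBit] at hbit
        exact Bool.noConfusion hbit
    have hcardB : Nat.card ↥(A.map psi) ≤
        1 + ((Finset.range 35).filter (fun i => m.testBit (cls i) = true)).card := by
      classical
      have hsub : ((A.map psi : Subgroup (Equiv.Perm GolayPt)) : Set (Equiv.Perm GolayPt)) ⊆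
          ↑(insert 1 (((Finset.range 35).filter (fun i => m.testBit (cls i) = true)).image
            (fun i => el (inv i)))) := by
        intro b hb
        rcases hBsub b hb with h | ⟨i, hi, hbit, h⟩
        · rw [h]
          exact Finset.mem_coe.mpr (Finset.mem_insert_self _ _)
        · rw [h]
          exact Finset.mem_coe.mpr (Finset.mem_insert_of_mem (Finset.mem_image_of_mem _
            (Finset.mem_filter.mpr ⟨Finset.mem_range.mpr hi, hbit⟩)))
      have h1 := Set.ncard_le_ncard hsub (Finset.finite_toSet _)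
      rw [Set.ncard_coe_finset] at h1
      have h2 : Nat.card ↥(A.map psi) =
          ((A.map psi : Subgroup (Equiv.Perm GolayPt)) : Set (Equiv.Perm GolayPt)).ncard :=
        Nat.card_coe_set_eq _
      rw [h2]
      refine le_trans h1 (le_trans (Finset.card_insert_le _ _) ?_)
      rw [Nat.add_comm]
      exact Nat.add_le_add_left Finset.card_image_le 1
    have hcardK : Nat.card ↥(A ⊓ psi.ker) ≤
        ((Finset.range 2048).filter (fun x => (fixMn m 35).testBit x = true)).card := by
      classical
      have hex : ∀ d : ↥(A ⊓ psi.ker), ∃ x, x < 2048 ∧ d.1 = theta0 (wd x) := by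
        intro d
        have hd : d.1 ∈ D := by
          rw [← Kernel.ker_eq]
          exact d.2.2
        exact (mem_D_iff _).mp hd
      choose f hf1 hf2 using hex
      have hfFS : ∀ d, f d ∈ (Finset.range 2048).filter (fun x => (fixMn m 35).testBit x = true) := by
        intro d
        rw [Finset.mem_filter, Finset.mem_range]
        refine ⟨hf1 d, testBit_fixMn m (f d) (hf1 d) 35 ?_⟩
        intro i hi hbit
        obtain ⟨a, ha, hpa⟩ := (hS i hi).mp hbit
        apply fix_spec hi (hf1 d)
        have hinv : IsInvTable (psi a) (tbl (inv i)) := by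
          rw [hpa]
          exact isInvTable_el_inv hi
        have hlt : ∀ j ∈ tbl (inv i), j < 24 := (valid_tb (cls_ok i hi).1).2.1
        apply fixed_of_comm hinv hlt (f d) (hf1 d)
        rw [← hf2 d]
        exact hcomm a ha d.1 d.2.1
      have hinj : Function.Injective (fun d : ↥(A ⊓ psi.ker) =>
          (⟨f d, hfFS d⟩ : ↥((Finset.range 2048).filter (fun x => (fixMn m 35).testBit x = true)))) := by
        intro d d' h
        have h1 : f d = f d' := congrArg Subtype.val h
        apply Subtype.ext
        rw [hf2 d, hf2 d', h1]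
      have h3 := Nat.card_le_card_of_injective _ hinj
      have e : Nat.card ↥((Finset.range 2048).filter (fun x => (fixMn m 35).testBit x = true)) =
          ((Finset.range 2048).filter (fun x => (fixMn m 35).testBit x = true)).card := by
        rw [Nat.card_eq_fintype_card, Fintype.card_coe]
      rw [e] at h3
      exact h3
    rw [CardMap.card_eq_card_inf_ker_mul_card_map psi A]
    refine le_trans (Nat.mul_le_mul hcardK hcardB) (le_trans (key_spec hm128 hm0) ?_)
    norm_num

/-- the statement for the Sylow subgroup of the extension -/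
theorem good_Ttil : Transport.Good Ttil := by
  have := Main.finite_E
  have := Main.finite_D
  rw [Transport.good_iff]
  refine ⟨?_, D, ⟨?_, ?_⟩, ?_⟩
  · intro A hA
    rcases le_D_or_card_le hA with h | h
    · calc Nat.card ↥A ≤ Nat.card ↥D := Subgroup.card_le_of_le h
        _ = 2 ^ 11 := by rw [card_D]; norm_num
    · exact le_trans h (by norm_num)
  · rw [Transport.nea_iff]
    refine ⟨D_le_Ttil, ?_, D_comm, D_sq⟩
    intro t _ a ha
    exact D_normal.conj_mem a ha t
  · rw [card_D]
    norm_num
  · intro A hA hc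
    rcases le_D_or_card_le hA with h | h
    · apply Subgroup.eq_of_le_of_card_ge h
      rw [hc, card_D]
      norm_num
    · rw [hc] at h
      norm_num at h

end Cfsg.Agent.Lib.Helper12.SylFi23.Core
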