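import Cfsg.Agent.Lib.Helper12.SylFi23.Inj
import Cfsg.Agent.Lib.Helper12.SylFi23.Core

/-!
The normal elementary abelian subgroups of the Sylow `2`-subgroups of the presented group Fi23 (helper12).
-/

set_option autoImplicit false
set_option maxRecDepth 100000

namespace Cfsg.Agent.Lib.Helper12.SylFi23.Final

open Cfsg Cfsg.Spor Cfsg.Agent.Lib.Helper12.Ord Cfsg.Agent.Lib.Helper12.Ord.Fi23Simple
  Cfsg.Agent.Lib.Helper12.M23Ext
  Cfsg.Agent.Lib.Helper12.SylFi23.Iota Cfsg.Agent.Lib.Helper12.SylFi23.Inj Cfsg.Agent.Lib.Helper12.SylFi23.Core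

theorem factorization_card : (Nat.card Cfsg.Spor.Fi23).factorization 2 = 18 := by
  rw [Fi23Order.card_eq]
  have e : (4089470473293004800 : ℕ) = 2 ^ 18 * 15600091832325 := by norm_num
  rw [e, Nat.factorization_mul (by norm_num) (by norm_num), Nat.Prime.factorization_pow Nat.prime_two]
  have h : (15600091832325 : ℕ).factorization 2 = 0 :=
    Nat.factorization_eq_zero_of_not_dvd (by norm_num)
  rw [Finsupp.add_apply, h, Finsupp.single_eq_same]

theorem card_image : Nat.card ↥(Ttil.map iota) = 2 ^ 18 := by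
  rw [Transport.card_map iota iota_injective, card_Ttil]

/-- the statement for all Sylow subgroups -/
theorem good (T : Sylow 2 Cfsg.Spor.Fi23) : Transport.Good (T : Subgroup Cfsg.Spor.Fi23) := by
  have : Finite Cfsg.Spor.Fi23 := Fi23Order.finite
  have : Fact (Nat.Prime 2) := ⟨Nat.prime_two⟩
  have hc : Nat.card ↥(Ttil.map iota) = 2 ^ (Nat.card Cfsg.Spor.Fi23).factorization 2 := by
    rw [factorization_card, card_image]
  exact Transport.good_sylow iota iota_injective Ttil good_Ttil (Sylow.ofCard (Ttil.map iota) hc)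
    (Sylow.coe_ofCard _ hc) T

end Cfsg.Agent.Lib.Helper12.SylFi23.Final
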