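import Cfsg.Agent.Lib.Helper12.SylFi23.TBarData

/-!
A Sylow `2`-subgroup of the group of Mathieu of degree `23`: its `128` elements, its involutions and their classes
(helper12).
-/

set_option autoImplicit false
set_option maxRecDepth 100000

namespace Cfsg.Agent.Lib.Helper12.SylFi23.TBar

open Cfsg Cfsg.Agent.Lib.Helper12.Golay Cfsg.Agent.Lib.helper4 Cfsg.Agent.Lib.Helper12.TC
  Cfsg.Agent.Lib.Helper12.SylFi23.TBarData

/-- the number of a generator or of its inverse -/
def gi (j : ℕ) : ℕ := GI.getD j 0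
/-- the number of the product of a generator and an element -/
def lm (j k : ℕ) : ℕ := LM.getD (128 * j + k) 0
/-- the parent of an element -/
def par (k : ℕ) : ℕ := PAR.getD k 0
/-- the generator of the edge to the parent -/
def pg (k : ℕ) : ℕ := PG.getD k 0
/-- the number of an involution -/
def inv (i : ℕ) : ℕ := INV.getD i 0
/-- the class of an involution -/
def cls (i : ℕ) : ℕ := CLS.getD i 0
/-- the number of the conjugating element of an involution -/
def cj (i : ℕ) : ℕ := CJ.getD i 0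
/-- the number of the inverse of the conjugating element of an involution -/
def cji (i : ℕ) : ℕ := CJI.getD i 0
/-- the number of the representative of a class -/
def rep (c : ℕ) : ℕ := REP.getD c 0
/-- the fixed vectors of an involution -/
def fx (i : ℕ) : ℕ := FIX.getD i 0

theorem tl_ok : ∀ k < 128, okK (tbl k) = true ∧ (tbl k).getD 23 0 = 23 := by decide +kernel

theorem tb_zero : tbl 0 = List.range 24 := by decide +kernel

theorem lm_ok_0 : ∀ k < 128, compTbl (tbl (gi 0)) (tbl k) = tbl (lm 0 k) ∧ lm 0 k < 128 := by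
  decide +kernel

theorem lm_ok_1 : ∀ k < 128, compTbl (tbl (gi 1)) (tbl k) = tbl (lm 1 k) ∧ lm 1 k < 128 := by
  decide +kernel

theorem lm_ok_2 : ∀ k < 128, compTbl (tbl (gi 2)) (tbl k) = tbl (lm 2 k) ∧ lm 2 k < 128 := by
  decide +kernel

theorem lm_ok_3 : ∀ k < 128, compTbl (tbl (gi 3)) (tbl k) = tbl (lm 3 k) ∧ lm 3 k < 128 := by
  decide +kernel

theorem lm_ok_4 : ∀ k < 128, compTbl (tbl (gi 4)) (tbl k) = tbl (lm 4 k) ∧ lm 4 k < 128 := by
  decide +kernel

theorem lm_ok_5 : ∀ k < 128, compTbl (tbl (gi 5)) (tbl k) = tbl (lm 5 k) ∧ lm 5 k < 128 := by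
  decide +kernel

theorem lm_ok_6 : ∀ k < 128, compTbl (tbl (gi 6)) (tbl k) = tbl (lm 6 k) ∧ lm 6 k < 128 := by
  decide +kernel

theorem lm_ok_7 : ∀ k < 128, compTbl (tbl (gi 7)) (tbl k) = tbl (lm 7 k) ∧ lm 7 k < 128 := by
  decide +kernel

theorem lm_ok : ∀ j < 8, ∀ k < 128, compTbl (tbl (gi j)) (tbl k) = tbl (lm j k) ∧ lm j k < 128 := by
  intro j hj
  interval_cases j
  exacts [lm_ok_0, lm_ok_1, lm_ok_2, lm_ok_3, lm_ok_4, lm_ok_5, lm_ok_6, lm_ok_7]

theorem gi_ok : ∀ j < 8, gi j < 128 := by decide +kernel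

theorem gi_inv : ∀ j < 4, lm j (gi (j + 4)) = 0 := by decide +kernel

theorem par_ok : ∀ k < 128, k = 0 ∨ (par k < k ∧ pg k < 4 ∧ lm (pg k) (par k) = k) := by decide +kernel

theorem tl_nodup : TL.Nodup := by decide +kernel

theorem tl_length : TL.length = 128 := by decide +kernel

theorem inv_ok : ∀ k < 128, compTbl (tbl k) (tbl k) = List.range 24 → k = 0 ∨ ∃ i < 35, k = inv i := by
  decide +kernel

theorem cls_ok : ∀ i < 35, inv i < 128 ∧ cj i < 128 ∧ cji i < 128 ∧ cls i < 7 ∧ rep (cls i) < 128 ∧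
    compTbl (tbl (cj i)) (tbl (cji i)) = List.range 24 ∧
    compTbl (tbl (cj i)) (compTbl (tbl (inv i)) (tbl (cji i))) = tbl (rep (cls i)) ∧
    compTbl (tbl (inv i)) (tbl (inv i)) = List.range 24 := by decide +kernel

theorem valid_tb {k : ℕ} (hk : k < 128) : ValidT (tbl k) := okK_valid (tl_ok k hk).1

theorem fperm_mul {L1 L2 L3 : List ℕ} (h1 : ValidT L1) (h2 : ValidT L2) (h3 : ValidT L3)
    (h : compTbl L1 L2 = L3) : fperm L1 * fperm L2 = fperm L3 := by
  apply tblOf_injective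
  rw [tblOf_mul, tblOf_fperm h1, tblOf_fperm h2, tblOf_fperm h3, h]

theorem fperm_range : fperm (List.range 24) = 1 := by
  apply tblOf_injective
  rw [tblOf_fperm (by decide), tblOf_one]

/-- the element with a given number -/
noncomputable def el (k : ℕ) : Equiv.Perm GolayPt := fperm (tbl k)

theorem el_zero : el 0 = 1 := by
  unfold el
  rw [tb_zero, fperm_range]

theorem tblOf_el {k : ℕ} (hk : k < 128) : tblOf (el k) = tbl k := tblOf_fperm (valid_tb hk)

theorem el_gen_mul {j k : ℕ} (hj : j < 8) (hk : k < 128) : el (gi j) * el k = el (lm j k) :=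
  fperm_mul (valid_tb (gi_ok j hj)) (valid_tb hk) (valid_tb (lm_ok j hj k hk).2) (lm_ok j hj k hk).1

theorem el_gen_inv {j : ℕ} (hj : j < 4) : (el (gi j))⁻¹ = el (gi (j + 4)) := by
  have h := el_gen_mul (j := j) (k := gi (j + 4)) (by omega) (gi_ok _ (by omega))
  rw [gi_inv j hj, el_zero] at h
  exact inv_eq_of_mul_eq_one_right h

/-- the Sylow subgroup -/
def Tbar : Subgroup (Equiv.Perm GolayPt) := Subgroup.closure {σ | ∃ j < 4, σ = el (gi j)}

theorem el_mem : ∀ k < 128, el k ∈ Tbar := by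
  intro k
  induction k using Nat.strong_induction_on with
  | _ k ih =>
    intro hk
    rcases par_ok k hk with rfl | ⟨h1, h2, h3⟩
    · rw [el_zero]
      exact Subgroup.one_mem _
    · have hp : par k < 128 := lt_trans h1 hk
      have h := el_gen_mul (j := pg k) (k := par k) (by omega) hp
      rw [h3] at h
      rw [← h]
      exact Subgroup.mul_mem _ (Subgroup.subset_closure ⟨pg k, h2, rfl⟩) (ih _ h1 hp)

theorem exists_of_mem {σ : Equiv.Perm GolayPt} (h : σ ∈ Tbar) : ∃ k < 128, σ = el k := by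
  unfold Tbar at h
  induction h using Subgroup.closure_induction_left with
  | one => exact ⟨0, by norm_num, el_zero.symm⟩
  | mul_left x hx y _ ih =>
    obtain ⟨j, hj, rfl⟩ := hx
    obtain ⟨k, hk, rfl⟩ := ih
    exact ⟨lm j k, (lm_ok j (by omega) k hk).2, el_gen_mul (by omega) hk⟩
  | inv_mul_cancel x hx y _ ih =>
    obtain ⟨j, hj, rfl⟩ := hx
    obtain ⟨k, hk, rfl⟩ := ih
    rw [el_gen_inv hj]
    exact ⟨lm (j + 4) k, (lm_ok (j + 4) (by omega) k hk).2, el_gen_mul (by omega) hk⟩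

theorem tb_eq {k : ℕ} (hk : k < 128) : tbl k = TL[k]'(by rw [tl_length]; exact hk) := by
  unfold tbl
  rw [List.getD_eq_getElem _ _ (by rw [tl_length]; exact hk)]

theorem el_injective {k k' : ℕ} (hk : k < 128) (hk' : k' < 128) (h : el k = el k') : k = k' := by
  have h1 : tbl k = tbl k' := by rw [← tblOf_el hk, ← tblOf_el hk', h]
  rw [tb_eq hk, tb_eq hk'] at h1
  exact (List.Nodup.getElem_inj_iff tl_nodup).mp h1

theorem card_Tbar : Nat.card ↥Tbar = 128 := by
  have hb : Function.Bijective (fun k : Fin 128 => (⟨el k, el_mem k k.2⟩ : ↥Tbar)) := by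
    constructor
    · intro a b hab
      exact Fin.ext (el_injective a.2 b.2 (congrArg Subtype.val hab))
    · rintro ⟨σ, hσ⟩
      obtain ⟨k, hk, rfl⟩ := exists_of_mem hσ
      exact ⟨⟨k, hk⟩, rfl⟩
  rw [← Nat.card_congr (Equiv.ofBijective _ hb), Nat.card_eq_fintype_card, Fintype.card_fin]

theorem el_mem_M23 {k : ℕ} (hk : k < 128) : el k ∈ Cfsg.Spor.M23 :=
  mem_SporM23 (tl_ok k hk).1 (tl_ok k hk).2

theorem Tbar_le_M23 : Tbar ≤ Cfsg.Spor.M23 := by
  intro σ hσ
  obtain ⟨k, hk, rfl⟩ := exists_of_mem hσ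
  exact el_mem_M23 hk

/-- the involutions of the subgroup -/
theorem involution_cases {σ : Equiv.Perm GolayPt} (h : σ ∈ Tbar) (h2 : σ * σ = 1) :
    σ = 1 ∨ ∃ i < 35, σ = el (inv i) := by
  obtain ⟨k, hk, rfl⟩ := exists_of_mem h
  have h3 : compTbl (tbl k) (tbl k) = List.range 24 := by
    rw [← tblOf_el hk, ← tblOf_mul, h2, tblOf_one]
  rcases inv_ok k hk h3 with rfl | ⟨i, hi, rfl⟩
  · exact Or.inl el_zero
  · exact Or.inr ⟨i, hi, rfl⟩

theorem el_inv_sq {i : ℕ} (hi : i < 35) : el (inv i) * el (inv i) = 1 := by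
  obtain ⟨h1, -, -, -, -, -, -, h8⟩ := cls_ok i hi
  unfold el
  rw [fperm_mul (valid_tb h1) (valid_tb h1) (by decide) h8, fperm_range]

theorem el_cj_inv {i : ℕ} (hi : i < 35) : (el (cj i))⁻¹ = el (cji i) := by
  obtain ⟨-, h2, h3, -, -, h6, -, -⟩ := cls_ok i hi
  have h := fperm_mul (valid_tb h2) (valid_tb h3) (by decide) h6
  rw [fperm_range] at h
  exact inv_eq_of_mul_eq_one_right h

/-- the involutions are conjugate to the representatives of their classes -/
theorem conj_rep {i : ℕ} (hi : i < 35) : el (cj i) * el (inv i) * (el (cj i))⁻¹ = el (rep (cls i)) := by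
  obtain ⟨h1, h2, h3, -, h5, -, h7, -⟩ := cls_ok i hi
  rw [el_cj_inv hi]
  apply tblOf_injective
  rw [mul_assoc, tblOf_mul, tblOf_mul, tblOf_el h1, tblOf_el h2, tblOf_el h3, tblOf_el h5, h7]

end Cfsg.Agent.Lib.Helper12.SylFi23.TBar
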