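import Cfsg.Agent.Lib.Helper12.SylFi23.Nu
import Cfsg.Agent.Lib.Helper12.SylFi23.TBar

/-!
The fixed vectors of the involutions of the Sylow subgroup on the normal subgroup of order `2 ^ 11`: for every union of
classes of involutions, the number of the common fixed vectors times the number of the involutions and the identity is at
most `2 ^ 10` (helper12).
-/

set_option autoImplicit false
set_option maxRecDepth 100000
set_option exponentiation.threshold 4096

namespace Cfsg.Agent.Lib.Helper12.SylFi23.FixChk

open Cfsg Cfsg.Agent.Lib.Helper12.Golay Cfsg.Agent.Lib.Helper12.TC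
  Cfsg.Agent.Lib.Helper12.M23Ext.Theta
  Cfsg.Agent.Lib.Helper12.SylFi23.TBarData Cfsg.Agent.Lib.Helper12.SylFi23.TBar Cfsg.Agent.Lib.Helper12.SylFi23.Nu

/-- kernel friendly test of a bit -/
def testK (n x : ℕ) : Bool := Nat.beq (Nat.land (Nat.shiftRight n x) 1) 1

theorem testK_eq (n x : ℕ) : testK n x = n.testBit x := by
  unfold testK
  have h1 : Nat.land (Nat.shiftRight n x) 1 = (n >>> x) % 2 ^ 1 := Nat.and_two_pow_sub_one_eq_mod _ 1
  rw [h1, Nat.testBit]
  rcases Nat.mod_two_eq_zero_or_one (n >>> x) with h | h
  · have e : 1 &&& n >>> x = 0 := by rw [Nat.and_comm, Nat.and_one_is_mod]; exact h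
    rw [pow_one, h, e]
    rfl
  · have e : 1 &&& n >>> x = 1 := by rw [Nat.and_comm, Nat.and_one_is_mod]; exact h
    rw [pow_one, h, e]
    rfl

/-- the test of a fixed vector -/
def fixK (L : List ℕ) (x : ℕ) : Bool := isCodeXK (Nat.xor (actK L x) x)

theorem fixK_eq (L : List ℕ) (x : ℕ) : fixK L x = isCodeX (actT L x ^^^ x) := by
  unfold fixK
  rw [isCodeXK_eq, actK_eq]
  rfl

theorem fix_ok : allBelowK 35
    (fun i => allBelowK 2048 (fun x => !(fixK (tbl (inv i)) x) || testK (fx i) x)) = true := by
  decide +kernel

/-- the common fixed vectors of the involutions of the classes of a mask, among the first `n` involutions -/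
def fixMn (m : ℕ) (n : ℕ) : ℕ :=
  @Nat.rec (fun _ => ℕ) (Nat.sub (Nat.pow 2 2048) 1)
    (fun i ih => cond (testK m (cls i)) (Nat.land ih (fx i)) ih) n

/-- the number of the bits of a number among the first `n` bits -/
def popc (F : ℕ) (n : ℕ) : ℕ :=
  @Nat.rec (fun _ => ℕ) 0 (fun x ih => cond (testK F x) (Nat.succ ih) ih) n

/-- the number of the involutions of the classes of a mask, among the first `n` involutions -/
def xsize (m : ℕ) (n : ℕ) : ℕ :=
  @Nat.rec (fun _ => ℕ) 0 (fun i ih => cond (testK m (cls i)) (Nat.succ ih) ih) n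

theorem key : allBelowK 128 (fun m => Nat.beq m 0 ||
    forceN (fixMn m 35) (fun F => Nat.ble (Nat.mul (popc F 2048) (Nat.succ (xsize m 35))) 1024)) = true := by
  decide +kernel

theorem fixMn_succ (m n : ℕ) :
    fixMn m (n + 1) = cond (testK m (cls n)) (Nat.land (fixMn m n) (fx n)) (fixMn m n) := rfl

theorem popc_succ (F n : ℕ) : popc F (n + 1) = cond (testK F n) (Nat.succ (popc F n)) (popc F n) := rfl

theorem xsize_succ (m n : ℕ) :
    xsize m (n + 1) = cond (testK m (cls n)) (Nat.succ (xsize m n)) (xsize m n) := rfl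

theorem testBit_fixMn (m x : ℕ) (hx : x < 2048) (n : ℕ)
    (h : ∀ i < n, m.testBit (cls i) = true → (fx i).testBit x = true) : (fixMn m n).testBit x = true := by
  induction n with
  | zero =>
    show (2 ^ 2048 - 1).testBit x = true
    rw [Nat.testBit_two_pow_sub_one]
    exact decide_eq_true hx
  | succ n ih =>
    have ih' := ih (fun i hi => h i (Nat.lt_succ_of_lt hi))
    rw [fixMn_succ, testK_eq]
    cases hc : m.testBit (cls n)
    · exact ih'
    · show (fixMn m n &&& fx n).testBit x = true
      rw [Nat.testBit_and, ih', h n (Nat.lt_succ_self n) hc]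
      rfl

theorem popc_eq (F n : ℕ) : popc F n = ((Finset.range n).filter (fun x => F.testBit x = true)).card := by
  induction n with
  | zero => rfl
  | succ n ih =>
    rw [popc_succ, testK_eq, Finset.range_add_one, Finset.filter_insert]
    cases hc : F.testBit n
    · simp [ih]
    · simp [ih]

theorem xsize_eq (m n : ℕ) :
    xsize m n = ((Finset.range n).filter (fun i => m.testBit (cls i) = true)).card := by
  induction n with
  | zero => rfl
  | succ n ih =>
    rw [xsize_succ, testK_eq, Finset.range_add_one, Finset.filter_insert]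
    cases hc : m.testBit (cls n)
    · simp [ih]
    · simp [ih]

/-- the bound for the unions of classes -/
theorem key_spec {m : ℕ} (hm : m < 128) (h0 : m ≠ 0) :
    ((Finset.range 2048).filter (fun x => (fixMn m 35).testBit x = true)).card *
      (1 + ((Finset.range 35).filter (fun i => m.testBit (cls i) = true)).card) ≤ 1024 := by
  have h := (allBelowK_iff _ _).mp key m hm
  rw [forceN_eq, Bool.or_eq_true] at h
  rcases h with h | h
  · exact absurd (Nat.eq_of_beq_eq_true h) h0
  · have h1 := Nat.le_of_ble_eq_true h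
    rw [← popc_eq, ← xsize_eq, Nat.add_comm 1]
    exact h1

/-- the fixed vectors of an involution are in its table -/
theorem fix_spec {i : ℕ} (hi : i < 35) {x : ℕ} (hx : x < 2048)
    (h : isCodeX (actT (tbl (inv i)) x ^^^ x) = true) : (fx i).testBit x = true := by
  have h1 := (allBelowK_iff _ _).mp ((allBelowK_iff _ _).mp fix_ok i hi) x hx
  rw [fixK_eq, h, Bool.not_true, Bool.false_or, testK_eq] at h1
  exact h1

/-- a mask for a set of classes -/
theorem exists_mask (n : ℕ) (p : ℕ → Prop) : ∃ m < 2 ^ n, ∀ c < n, (m.testBit c = true ↔ p c) := by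
  induction n with
  | zero => exact ⟨0, by norm_num, fun c hc => absurd hc (Nat.not_lt_zero c)⟩
  | succ n ih =>
    obtain ⟨m, hm, hmc⟩ := ih
    have hmn : m.testBit n = false := Nat.testBit_lt_two_pow hm
    by_cases hp : p n
    · refine ⟨m ||| 2 ^ n, Nat.or_lt_two_pow (lt_trans hm (by rw [pow_succ]; omega)) (by rw [pow_succ]; omega), ?_⟩
      intro c hc
      rw [Nat.testBit_or, Nat.testBit_two_pow]
      rcases Nat.lt_succ_iff_lt_or_eq.mp hc with h | rfl
      · have : decide (n = c) = false := decide_eq_false (by omega)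
        rw [this, Bool.or_false]
        exact hmc c h
      · simp [hp]
    · refine ⟨m, lt_trans hm (by rw [pow_succ]; omega), ?_⟩
      intro c hc
      rcases Nat.lt_succ_iff_lt_or_eq.mp hc with h | rfl
      · exact hmc c h
      · rw [hmn]
        simp [hp]

end Cfsg.Agent.Lib.Helper12.SylFi23.FixChk
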