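import Cfsg.Agent.Lib.Helper12.SylFi23.IotaDef
import Cfsg.Agent.Lib.Helper12.M23Ext.Theta1
import Cfsg.Agent.Lib.Helper12.M23Ext.LeaderData

/-!
The images of the coset leaders in the group Fi23 move one of the ten points of the generators (helper12).
-/

set_option autoImplicit false
set_option maxRecDepth 100000

namespace Cfsg.Agent.Lib.Helper12.SylFi23.InjChk

open Cfsg.Spor Cfsg.Agent.Lib.Helper12.TC Cfsg.Agent.Lib.Helper12.TC.Fi23o31671
  Cfsg.Agent.Lib.Helper12.M23Ext Cfsg.Agent.Lib.Helper12.M23Ext.Theta
  Cfsg.Agent.Lib.Helper12.SylFi23.Base Cfsg.Agent.Lib.Helper12.SylFi23.IotaDef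

/-- the check of a coset leader -/
noncomputable def chkS (s : ℕ) : Bool :=
  Nat.beq s 0 || Nat.beq s 2048 ||
    anyListK qpts (fun q => !(Nat.beq (applyF TT ((dletters (leader s)).flatMap wlet).reverse q) q))

theorem chkS_0 : allBelowK 512 (fun s => Nat.blt s 0 || chkS s) = true := by decide +kernel
theorem chkS_1 : allBelowK 1024 (fun s => Nat.blt s 512 || chkS s) = true := by decide +kernel
theorem chkS_2 : allBelowK 1536 (fun s => Nat.blt s 1024 || chkS s) = true := by decide +kernel
theorem chkS_3 : allBelowK 2048 (fun s => Nat.blt s 1536 || chkS s) = true := by decide +kernel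
theorem chkS_4 : allBelowK 2560 (fun s => Nat.blt s 2048 || chkS s) = true := by decide +kernel
theorem chkS_5 : allBelowK 3072 (fun s => Nat.blt s 2560 || chkS s) = true := by decide +kernel
theorem chkS_6 : allBelowK 3584 (fun s => Nat.blt s 3072 || chkS s) = true := by decide +kernel
theorem chkS_7 : allBelowK 4096 (fun s => Nat.blt s 3584 || chkS s) = true := by decide +kernel

theorem chk_range {lo hi : ℕ} (h : allBelowK hi (fun s => Nat.blt s lo || chkS s) = true) {s : ℕ}
    (h1 : lo ≤ s) (h2 : s < hi) : chkS s = true := by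
  have h3 := (allBelowK_iff _ _).mp h s h2
  rw [Bool.or_eq_true] at h3
  rcases h3 with h3 | h3
  · exact absurd (Nat.le_of_ble_eq_true h3) (by omega)
  · exact h3

theorem chkS_all : ∀ s < 4096, chkS s = true := by
  intro s hs
  by_cases h1 : s < 512
  · exact chk_range chkS_0 (Nat.zero_le _) h1
  by_cases h2 : s < 1024
  · exact chk_range chkS_1 (by omega) h2
  by_cases h3 : s < 1536
  · exact chk_range chkS_2 (by omega) h3
  by_cases h4 : s < 2048
  · exact chk_range chkS_3 (by omega) h4
  by_cases h5 : s < 2560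
  · exact chk_range chkS_4 (by omega) h5
  by_cases h6 : s < 3072
  · exact chk_range chkS_5 (by omega) h6
  by_cases h7 : s < 3584
  · exact chk_range chkS_6 (by omega) h7
  · exact chk_range chkS_7 (by omega) hs

theorem leader_zero : leader 0 = 0 ∧ leader 2048 = 0 := by decide +kernel

end Cfsg.Agent.Lib.Helper12.SylFi23.InjChk
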