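import Cfsg.Agent.Lib.Helper12.M23Ext.Main
import Cfsg.Agent.Lib.Helper12.SylFi23.TBarData

/-!
The normal subgroup of order `2 ^ 11` of the presented extension of the group of Mathieu of degree `23`: its elements are
the images of the binary words on the first eleven points, and the conjugation acts on them through the permutation
of the points (helper12).
-/

set_option autoImplicit false
set_option maxRecDepth 100000

namespace Cfsg.Agent.Lib.Helper12.SylFi23.Nu

open Cfsg Cfsg.Agent.Lib.Helper12.Golay Cfsg.Agent.Lib.Helper12.TC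
  Cfsg.Agent.Lib.Helper12.M23Ext Cfsg.Agent.Lib.Helper12.M23Ext.EPres Cfsg.Agent.Lib.Helper12.M23Ext.ERel
  Cfsg.Agent.Lib.Helper12.M23Ext.Theta Cfsg.Agent.Lib.Helper12.M23Ext.Psi
  Cfsg.Agent.Lib.Helper12.SylFi23.TBarData

/-- the reduction of the upper bits -/
def rr (h : ℕ) : ℕ := Nat.land (Nat.shiftRight RLit (Nat.mul 11 h)) 2047

/-- kernel friendly membership test -/
def isCodeXK (m : ℕ) : Bool := isCodeF m || isCodeF (Nat.xor m 8388608)

theorem isCodeXK_eq (m : ℕ) : isCodeXK m = isCodeX m := by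
  unfold isCodeXK isCodeX
  rw [isCodeF_eq, isCodeF_eq]
  rfl

theorem rr_ok : allBelowK 8192
    (fun h => isCodeXK (Nat.xor (Nat.mul 2048 h) (rr h)) && Nat.blt (rr h) 2048) = true := by
  decide +kernel

theorem low_ok : allBelowK 2048 (fun z => Nat.beq z 0 || !(isCodeXK z)) = true := by decide +kernel

/-- every element of the normal subgroup is the image of a word on the first eleven points -/
theorem exists_low (w : GolayPt → ZMod 2) : ∃ x < 2048, theta0 w = theta0 (wd x) := by
  have hmlt : maskW w < 2 ^ 24 := maskW_lt w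
  have hw : wd (maskW w) = w := wd_maskW w
  generalize maskW w = m at hmlt hw
  have hlo : m % 2048 < 2048 := Nat.mod_lt _ (by norm_num)
  have hrmod : (m ^^^ (m % 2048)) % 2048 = 0 := by
    have e : (2048 : ℕ) = 2 ^ 11 := by norm_num
    rw [e, Nat.xor_mod_two_pow, Nat.mod_mod, Nat.xor_self]
  have hrlt : m ^^^ (m % 2048) < 2 ^ 24 := Nat.xor_lt_two_pow hmlt (lt_trans hlo (by norm_num))
  have hm : m = (m ^^^ (m % 2048)) ^^^ (m % 2048) := by rw [Nat.xor_xor_cancel_right]
  generalize m ^^^ (m % 2048) = r at hrmod hrlt hm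
  have hh : r / 2048 < 8192 := by omega
  have hrs : r = 2048 * (r / 2048) := by omega
  have hchk := (allBelowK_iff _ _).mp rr_ok (r / 2048) hh
  generalize r / 2048 = h at hh hrs hchk
  rw [Bool.and_eq_true] at hchk
  obtain ⟨hX, hl⟩ := hchk
  have hl' : rr h < 2048 := Nat.le_of_ble_eq_true hl
  have hX' : isCodeX ((2048 * h) ^^^ rr h) = true := by
    rw [← isCodeXK_eq]
    exact hX
  have hX1 : theta0 (wd ((2048 * h) ^^^ rr h)) = 1 :=
    theta0_of_isCodeX (Nat.xor_lt_two_pow (hrs ▸ hrlt) (lt_trans hl' (by norm_num))) hX'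
  refine ⟨rr h ^^^ (m % 2048), Nat.xor_lt_two_pow (n := 11) hl' hlo, ?_⟩
  have e : wd m = wd ((2048 * h) ^^^ rr h) + wd (rr h ^^^ (m % 2048)) := by
    rw [← wd_xor, Nat.xor_assoc, Nat.xor_xor_cancel_left, ← hrs]
    exact congrArg wd hm
  rw [← hw, e, theta0_add, hX1, one_mul]

/-- a word whose image is trivial is in the code or its translate -/
theorem isCodeX_of_theta0 {z : ℕ} (hz : z < 2 ^ 24) (h : theta0 (wd z) = 1) : isCodeX z = true := by
  unfold isCodeX
  rw [Bool.or_eq_true]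
  rcases (theta0_eq_one_iff _).mp h with h1 | h1
  · exact Or.inl ((wd_mem_golayCode_iff hz).mp h1)
  · right
    rw [single_none, ← wd_xor] at h1
    exact (wd_mem_golayCode_iff (Nat.xor_lt_two_pow hz (by norm_num))).mp h1

theorem theta0_sq (w : GolayPt → ZMod 2) : theta0 w * theta0 w = 1 := by
  rw [← theta0_add, add_self_word, theta0_zero]

theorem low_inj {x y : ℕ} (hx : x < 2048) (hy : y < 2048) (h : theta0 (wd x) = theta0 (wd y)) : x = y := by
  have h1 : theta0 (wd (x ^^^ y)) = 1 := by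
    rw [wd_xor, theta0_add, h, theta0_sq]
  have hz : x ^^^ y < 2048 := Nat.xor_lt_two_pow (n := 11) hx hy
  have h2 := isCodeX_of_theta0 (lt_trans hz (by norm_num)) h1
  have h3 := (allBelowK_iff _ _).mp low_ok _ hz
  rw [isCodeXK_eq, h2, Bool.not_true, Bool.or_false] at h3
  have h4 : x ^^^ y = 0 := Nat.eq_of_beq_eq_true h3
  exact Nat.xor_eq_zero_iff.mp h4

theorem mem_D_iff (d : Grp) : d ∈ D ↔ ∃ x < 2048, d = theta0 (wd x) := by
  constructor
  · intro hd
    obtain ⟨w, rfl⟩ := theta0_surj d hd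
    exact exists_low w
  · rintro ⟨x, -, rfl⟩
    exact theta0_mem _

theorem card_D : Nat.card ↥D = 2048 := by
  have hb : Function.Bijective (fun x : Fin 2048 => (⟨theta0 (wd x), theta0_mem _⟩ : ↥D)) := by
    constructor
    · intro a b hab
      exact Fin.ext (low_inj a.2 b.2 (congrArg Subtype.val hab))
    · rintro ⟨d, hd⟩
      obtain ⟨x, hx, rfl⟩ := (mem_D_iff d).mp hd
      exact ⟨⟨x, hx⟩, rfl⟩
  rw [← Nat.card_congr (Equiv.ofBijective _ hb), Nat.card_eq_fintype_card, Fintype.card_fin]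

theorem D_comm : ∀ a ∈ D, ∀ b ∈ D, a * b = b * a := by
  intro a ha b hb
  obtain ⟨w, rfl⟩ := theta0_surj a ha
  obtain ⟨w', rfl⟩ := theta0_surj b hb
  rw [← theta0_add, ← theta0_add, add_comm]

theorem D_sq : ∀ a ∈ D, a ^ 2 = 1 := by
  intro a ha
  obtain ⟨w, rfl⟩ := theta0_surj a ha
  rw [pow_two, theta0_sq]

/-- the action of a permutation on the binary words -/
theorem wd_comp_symm {σ : Equiv.Perm GolayPt} {L : List ℕ} (h : IsInvTable σ L) (hlt : ∀ i ∈ L, i < 24)
    (m : ℕ) : wd m ∘ ⇑σ⁻¹ = wd (actT L m) := by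
  funext p
  have hj := idx_lt p
  rw [← pt_idx p]
  generalize idx p = j at hj
  have hj' : j < L.length := by rw [h.1]; exact hj
  have e1 : σ⁻¹ (pt j) = pt (L.getD j 0) := h.symm_pt hj
  show wd m (σ⁻¹ (pt j)) = wd (actT L m) (pt j)
  rw [e1]
  unfold wd
  rw [idx_pt (h.lt hlt hj), idx_pt hj, testBit_actT, dif_pos hj', List.getD_eq_getElem _ _ hj']

/-- the conjugation on the normal subgroup -/
theorem conj_low {g : Grp} {L : List ℕ} (h : IsInvTable (psi g) L) (hlt : ∀ i ∈ L, i < 24) (x : ℕ) :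
    g * theta0 (wd x) * g⁻¹ = theta0 (wd (actT L x)) := by
  rw [← Equivar.theta0_conj, wd_comp_symm h hlt]

/-- the vectors which commute with an element are fixed vectors of its permutation -/
theorem fixed_of_comm {g : Grp} {L : List ℕ} (h : IsInvTable (psi g) L) (hlt : ∀ i ∈ L, i < 24) (x : ℕ)
    (hx : x < 2048) (hc : g * theta0 (wd x) = theta0 (wd x) * g) : isCodeX (actT L x ^^^ x) = true := by
  have h1 : g * theta0 (wd x) * g⁻¹ = theta0 (wd x) := by
    rw [hc, mul_assoc, mul_inv_cancel, mul_one]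
  rw [conj_low h hlt] at h1
  have h2 : theta0 (wd (actT L x ^^^ x)) = 1 := by
    rw [wd_xor, theta0_add, h1, theta0_sq]
  exact isCodeX_of_theta0 (Nat.xor_lt_two_pow (actT_lt h.1 x) (lt_trans hx (by norm_num))) h2

end Cfsg.Agent.Lib.Helper12.SylFi23.Nu
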