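import Cfsg.Agent.Lib.Helper12.SylFi23.Iota
import Cfsg.Agent.Lib.Helper12.SylFi23.InjChk
import Cfsg.Agent.Lib.Helper12.SylFi23.Nu

/-!
The homomorphism of the presented extension of the group of Mathieu of degree `23` into the presented group Fi23 is
injective (helper12).
-/

set_option autoImplicit false
set_option maxRecDepth 100000

namespace Cfsg.Agent.Lib.Helper12.SylFi23.Inj

open Cfsg Cfsg.Spor Cfsg.Agent.Lib.Helper12.Golay Cfsg.Agent.Lib.Helper12.TC Cfsg.Agent.Lib.Helper12.TC.Fi23o31671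
  Cfsg.Agent.Lib.Helper12.TC.Fi23Pres Cfsg.Agent.Lib.Helper12.Ord
  Cfsg.Agent.Lib.Helper12.Ord.Fi23Simple
  Cfsg.Agent.Lib.Helper12.M23Ext Cfsg.Agent.Lib.Helper12.M23Ext.ERel
  Cfsg.Agent.Lib.Helper12.M23Ext.Theta Cfsg.Agent.Lib.Helper12.M23Ext.Psi
  Cfsg.Agent.Lib.Helper12.SylFi23.Base Cfsg.Agent.Lib.Helper12.SylFi23.IotaDef
  Cfsg.Agent.Lib.Helper12.SylFi23.Iota Cfsg.Agent.Lib.Helper12.SylFi23.InjChk Cfsg.Agent.Lib.Helper12.SylFi23.Nu

/-- the elements of the normal subgroup are products of the involutions of a coset leader -/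
theorem theta0_leader_form (w : GolayPt → ZMod 2) :
    ∃ s < 4096, theta0 w = wprod EPres.v (dletters (leader s)) := by
  have hmlt : maskW w < 2 ^ 24 := maskW_lt w
  have hw : wd (maskW w) = w := wd_maskW w
  generalize maskW w = m at hmlt hw
  have hu : m % 4096 < 4096 := Nat.mod_lt _ (by norm_num)
  have hclt : enc (m % 4096) < 2 ^ 24 := enc_lt _
  have hc : wd (enc (m % 4096)) ∈ golayCode := (wd_mem_golayCode_iff hclt).mpr (isCode_enc hu)
  have hrlt : m ^^^ enc (m % 4096) < 2 ^ 24 := Nat.xor_lt_two_pow hmlt hclt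
  have hrmod : (m ^^^ enc (m % 4096)) % 4096 = 0 := by
    have e : (4096 : ℕ) = 2 ^ 12 := by norm_num
    rw [e, Nat.xor_mod_two_pow, ← e, enc_mod hu, Nat.xor_self]
  have hm : wd m = wd (m ^^^ enc (m % 4096)) + wd (enc (m % 4096)) := by
    rw [← wd_xor, Nat.xor_xor_cancel_right]
  rw [← hw, hm, theta0_add, theta0_of_mem_code hc, mul_one]
  generalize m ^^^ enc (m % 4096) = r at hrlt hrmod
  have hs : r / 4096 < 4096 := by omega
  have hrs : r = 4096 * (r / 4096) := by omega
  have hchk := allBelow_spec chk_all (r / 4096) hs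
  generalize r / 4096 = s at hs hrs hchk
  unfold chk at hchk
  rw [Bool.and_eq_true, Bool.and_eq_true, Bool.and_eq_true] at hchk
  obtain ⟨⟨hX, hl⟩, -, -⟩ := hchk
  have hl' : leader s < 2 ^ 24 := lt_trans (Nat.le_of_ble_eq_true hl) (by norm_num)
  have hX1 : theta0 (wd ((4096 * s) ^^^ leader s)) = 1 :=
    theta0_of_isCodeX (Nat.xor_lt_two_pow (hrs ▸ hrlt) hl') hX
  refine ⟨s, hs, ?_⟩
  have e2 : wd r = wd ((4096 * s) ^^^ leader s) + wd (leader s) := by
    rw [← wd_xor, Nat.xor_xor_cancel_right, ← hrs]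
  rw [e2, theta0_add, hX1, one_mul, theta0_wd]

/-- a word which is trivial in the group Fi23 fixes the points -/
theorem fix_of_wprod_eq_one (w : List ℕ) (hw : ∀ s ∈ w, s < 27) (h : wprod uu w = 1) {q : ℕ} (hq : q < cN) :
    Fn.applyW TT w q = q := by
  have h1 := Fn.rho_word uu rho rho_uu w hw ⟨q, hq⟩
  rw [h, map_one, Equiv.Perm.one_apply] at h1
  exact h1.symm

/-- the homomorphism is injective on the normal subgroup -/
theorem eq_one_of_mem_D {d : EPres.Grp} (hd : d ∈ D) (h : iota d = 1) : d = 1 := by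
  obtain ⟨w, rfl⟩ := theta0_surj d hd
  obtain ⟨s, hs, e⟩ := theta0_leader_form w
  rw [e] at h ⊢
  rw [iota_word _ (dletters_lt _)] at h
  have hc := chkS_all s hs
  unfold chkS at hc
  rw [Bool.or_eq_true, Bool.or_eq_true] at hc
  rcases hc with (h0 | h0) | h0
  · rw [Nat.eq_of_beq_eq_true h0, leader_zero.1]
    rfl
  · rw [Nat.eq_of_beq_eq_true h0, leader_zero.2]
    rfl
  · exfalso
    obtain ⟨q, hq, hne⟩ := (anyListK_iff _ _).mp h0
    rw [applyF_eq, List.reverse_reverse,
      fix_of_wprod_eq_one _ (flatMap_lt _ (dletters_lt _)) h (qpts_lt q hq)] at hne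
    have h1 : Nat.beq q q = true := Nat.beq_refl q
    rw [h1] at hne
    exact Bool.noConfusion hne

/-- the images of the unit vectors -/
theorem dpt_eq_theta0 : ∀ t < 24, dpt (pt t) = theta0 (wd (2 ^ t)) := by
  intro t ht
  by_cases h : t < 23
  · rw [theta0_wd_pow h, dpt_pt h]
  · have e : t = 23 := by omega
    subst e
    have e2 : (2 : ℕ) ^ 23 = 8388608 := by norm_num
    rw [e2, ← single_none, theta0_single_none]
    rfl

theorem pow_chk : ∀ t < 24, ∀ t' < 24, t ≠ t' → isCodeX (2 ^ t ^^^ 2 ^ t') = false := by decide +kernel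

theorem dpt_injective : Function.Injective dpt := by
  intro p q hpq
  rw [← pt_idx p, ← pt_idx q] at hpq ⊢
  have hi := idx_lt p
  have hj := idx_lt q
  generalize idx p = i at hi hpq
  generalize idx q = j at hj hpq
  by_contra hne
  have hij : i ≠ j := fun e => hne (by rw [e])
  rw [dpt_eq_theta0 i hi, dpt_eq_theta0 j hj] at hpq
  have h1 : theta0 (wd (2 ^ i ^^^ 2 ^ j)) = 1 := by
    rw [wd_xor, theta0_add, hpq, theta0_sq]
  have hlt : ∀ t < 24, 2 ^ t < 2 ^ 24 := fun t ht => Nat.pow_lt_pow_right (by norm_num) ht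
  have h2 := isCodeX_of_theta0 (Nat.xor_lt_two_pow (hlt i hi) (hlt j hj)) h1
  rw [pow_chk i hi j hj hij] at h2
  exact Bool.noConfusion h2

theorem iota_injective : Function.Injective iota := by
  rw [injective_iff_map_eq_one]
  intro g hg
  have hpsi : psi g = 1 := by
    ext p
    have h1 : iota (dpt (psi g p) * (dpt p)⁻¹) = 1 := by
      rw [← Equivar.conj_dpt, map_mul, map_mul, map_mul, map_inv, map_inv, hg]
      group
    have h2 := eq_one_of_mem_D (Subgroup.mul_mem _ (dpt_mem _) (Subgroup.inv_mem _ (dpt_mem _))) h1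
    have h3 : dpt (psi g p) = dpt p := by
      rw [← mul_inv_eq_one]
      exact h2
    rw [dpt_injective h3]
    rfl
  have hD : g ∈ D := by
    rw [← Kernel.ker_eq, MonoidHom.mem_ker]
    exact hpsi
  exact eq_one_of_mem_D hD hg

end Cfsg.Agent.Lib.Helper12.SylFi23.Inj
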