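import Cfsg.Agent.Lib.Helper12.SylFi23.IotaDef

/-!
The check of the commutators of the involutions in the group Fi23 (generated, helper12).
-/

set_option autoImplicit false
set_option maxRecDepth 100000

namespace Cfsg.Agent.Lib.Helper12.SylFi23.IotaChkB

open Cfsg.Spor Cfsg.Agent.Lib.Helper12.TC Cfsg.Agent.Lib.Helper12.TC.Fi23o31671
  Cfsg.Agent.Lib.Helper12.TC.Fi23Pres Cfsg.Agent.Lib.Helper12.Ord Cfsg.Agent.Lib.Helper12.TCG
  Cfsg.Agent.Lib.Helper12.Ord.Fi23Simple Cfsg.Agent.Lib.Helper12.Ord.Fi23Transp
  Cfsg.Agent.Lib.Helper12.M23Ext Cfsg.Agent.Lib.Helper12.SylFi23.Base Cfsg.Agent.Lib.Helper12.SylFi23.IotaDef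

theorem chk4_0 : allListK EPres.commE (chkQ 30560) = true := by decide +kernel
theorem chk4_1 : allListK EPres.commE (chkQ 29986) = true := by decide +kernel
theorem chk4_2 : allListK EPres.commE (chkQ 29985) = true := by decide +kernel
theorem chk4_3 : allListK EPres.commE (chkQ 29982) = true := by decide +kernel
theorem chk4_4 : allListK EPres.commE (chkQ 29983) = true := by decide +kernel
theorem chk4_5 : allListK EPres.commE (chkQ 29984) = true := by decide +kernel
theorem chk4_6 : allListK EPres.commE (chkQ 29987) = true := by decide +kernel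
theorem chk4_7 : allListK EPres.commE (chkQ 5385) = true := by decide +kernel
theorem chk4_8 : allListK EPres.commE (chkQ 29981) = true := by decide +kernel
theorem chk4_9 : allListK EPres.commE (chkQ 29988) = true := by decide +kernel

theorem chk4 : ∀ q ∈ qpts, allListK EPres.commE (chkQ q) = true := by
  intro q hq
  simp only [qpts, List.mem_cons, List.mem_nil_iff, or_false] at hq
  rcases hq with rfl | rfl | rfl | rfl | rfl | rfl | rfl | rfl | rfl | rfl
  exacts [chk4_0, chk4_1, chk4_2, chk4_3, chk4_4, chk4_5, chk4_6, chk4_7, chk4_8, chk4_9]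

end Cfsg.Agent.Lib.Helper12.SylFi23.IotaChkB
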