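import Cfsg.Agent.Lib.Helper12.SylFi23.IotaDef

/-!
The check of the action on the involutions in the group Fi23 (generated, helper12).
-/

set_option autoImplicit false
set_option maxRecDepth 100000

namespace Cfsg.Agent.Lib.Helper12.SylFi23.IotaChkC

open Cfsg.Spor Cfsg.Agent.Lib.Helper12.TC Cfsg.Agent.Lib.Helper12.TC.Fi23o31671
  Cfsg.Agent.Lib.Helper12.TC.Fi23Pres Cfsg.Agent.Lib.Helper12.Ord Cfsg.Agent.Lib.Helper12.TCG
  Cfsg.Agent.Lib.Helper12.Ord.Fi23Simple Cfsg.Agent.Lib.Helper12.Ord.Fi23Transp
  Cfsg.Agent.Lib.Helper12.M23Ext Cfsg.Agent.Lib.Helper12.SylFi23.Base Cfsg.Agent.Lib.Helper12.SylFi23.IotaDef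

theorem chk5_0 : allListK EPres.conjE (chkQ 30560) = true := by decide +kernel
theorem chk5_1 : allListK EPres.conjE (chkQ 29986) = true := by decide +kernel
theorem chk5_2 : allListK EPres.conjE (chkQ 29985) = true := by decide +kernel
theorem chk5_3 : allListK EPres.conjE (chkQ 29982) = true := by decide +kernel
theorem chk5_4 : allListK EPres.conjE (chkQ 29983) = true := by decide +kernel
theorem chk5_5 : allListK EPres.conjE (chkQ 29984) = true := by decide +kernel
theorem chk5_6 : allListK EPres.conjE (chkQ 29987) = true := by decide +kernel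
theorem chk5_7 : allListK EPres.conjE (chkQ 5385) = true := by decide +kernel
theorem chk5_8 : allListK EPres.conjE (chkQ 29981) = true := by decide +kernel
theorem chk5_9 : allListK EPres.conjE (chkQ 29988) = true := by decide +kernel

theorem chk5 : ∀ q ∈ qpts, allListK EPres.conjE (chkQ q) = true := by
  intro q hq
  simp only [qpts, List.mem_cons, List.mem_nil_iff, or_false] at hq
  rcases hq with rfl | rfl | rfl | rfl | rfl | rfl | rfl | rfl | rfl | rfl
  exacts [chk5_0, chk5_1, chk5_2, chk5_3, chk5_4, chk5_5, chk5_6, chk5_7, chk5_8, chk5_9]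

end Cfsg.Agent.Lib.Helper12.SylFi23.IotaChkC
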