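import Cfsg.Agent.Lib.Helper12.SylFi23.IotaChkA
import Cfsg.Agent.Lib.Helper12.SylFi23.IotaChkB
import Cfsg.Agent.Lib.Helper12.SylFi23.IotaChkC

/-!
The homomorphism of the presented extension of the group of Mathieu of degree `23` into the presented group Fi23: the
images of the letters are words in the generators and the central element of the subgroup, the relators are checked on
the ten points of the generators (helper12).
-/

set_option autoImplicit false
set_option maxRecDepth 100000

namespace Cfsg.Agent.Lib.Helper12.SylFi23.Iota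

open Cfsg.Spor Cfsg.Agent.Lib.Helper12.TC Cfsg.Agent.Lib.Helper12.TC.Fi23o31671
  Cfsg.Agent.Lib.Helper12.TC.Fi23Pres Cfsg.Agent.Lib.Helper12.Ord Cfsg.Agent.Lib.Helper12.TCG
  Cfsg.Agent.Lib.Helper12.Ord.Fi23Simple Cfsg.Agent.Lib.Helper12.Ord.Fi23Transp
  Cfsg.Agent.Lib.Helper12.M23Ext Cfsg.Agent.Lib.Helper12.SylFi23.Base Cfsg.Agent.Lib.Helper12.SylFi23.IotaDef

theorem chk_all : ∀ b ∈ EPres.baseL, ∀ q ∈ qpts, chkQ q b = true := by
  intro b hb q hq
  unfold EPres.baseL at hb
  rcases List.mem_append.mp hb with h | hb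
  · exact (allListK_iff _ _).mp (IotaChkA.chk1 q hq) b h
  rcases List.mem_append.mp hb with h | hb
  · exact (allListK_iff _ _).mp (IotaChkA.chk2 q hq) b h
  rcases List.mem_append.mp hb with h | hb
  · exact (allListK_iff _ _).mp (IotaChkA.chk3 q hq) b h
  rcases List.mem_append.mp hb with h | hb
  · exact (allListK_iff _ _).mp (IotaChkB.chk4 q hq) b h
  rcases List.mem_append.mp hb with h | hb
  · exact (allListK_iff _ _).mp (IotaChkC.chk5 q hq) b h
  rcases List.mem_append.mp hb with h | hb
  · exact (allListK_iff _ _).mp (IotaChkA.chk6 q hq) b h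
  · rw [List.mem_singleton.mp hb]
    exact Nat.beq_refl q

theorem flatMap_lt (b : List ℕ) (hb : ∀ s ∈ b, s < 28) : ∀ s ∈ b.flatMap wlet, s < 27 := by
  intro s hs
  obtain ⟨x, hx, hsx⟩ := List.mem_flatMap.mp hs
  exact wlet_lt x (hb x hx) s hsx

/-- a word in the letters of the extension is trivial in the group Fi23 if it passes the check -/
theorem wprod_eq_one_of_chk (b : List ℕ) (hb : ∀ s ∈ b, s < 28) (h : ∀ q ∈ qpts, chkQ q b = true) :
    wprod (fun x => wprod uu (wlet x)) b = 1 := by
  rw [wprod_subst]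
  apply wprod_eq_one_of_fix _ (flatMap_lt b hb)
  intro q hq
  exact chkQ_spec (h q hq)

theorem hrel : ∀ b ∈ EPres.baseL, wprod (fun x => wprod uu (wlet x)) b = 1 := by
  intro b hb
  exact wprod_eq_one_of_chk b (fun s hs => lettersK_lt EPres.hlet hb hs) (chk_all b hb)

theorem exists_iota : ∃ ρ : EPres.Grp →* PresentedGroup R, ∀ x < 28, ρ (EPres.v x) = wprod uu (wlet x) :=
  EPres.hliftG _ hrel

/-- the homomorphism of the extension into the group Fi23 -/
noncomputable def iota : EPres.Grp →* PresentedGroup R := exists_iota.choose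

theorem iota_letter : ∀ x < 28, iota (EPres.v x) = wprod uu (wlet x) := exists_iota.choose_spec

theorem wprod_congr_below {K : Type*} [Group K] (f g : ℕ → K) (n : ℕ) (h : ∀ x < n, f x = g x) (w : List ℕ)
    (hw : ∀ s ∈ w, s < n) : wprod f w = wprod g w := by
  induction w with
  | nil => rfl
  | cons s w ih =>
    rw [wprod_cons, wprod_cons, h s (hw s List.mem_cons_self),
      ih (fun t ht => hw t (List.mem_cons_of_mem _ ht))]

/-- the image of a word -/
theorem iota_word (b : List ℕ) (hb : ∀ s ∈ b, s < 28) :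
    iota (wprod EPres.v b) = wprod uu (b.flatMap wlet) := by
  rw [← WPres.wprod_map iota EPres.v b, ← wprod_subst]
  exact wprod_congr_below _ _ 28 iota_letter b hb

end Cfsg.Agent.Lib.Helper12.SylFi23.Iota
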