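import Cfsg.Agent.Lib.Helper12.SylFi23.IotaDef

/-!
The check of the relators of the group of Mathieu, of the squares and of the relators of the code in the group Fi23 (generated, helper12).
-/

set_option autoImplicit false
set_option maxRecDepth 100000

namespace Cfsg.Agent.Lib.Helper12.SylFi23.IotaChkA

open Cfsg.Spor Cfsg.Agent.Lib.Helper12.TC Cfsg.Agent.Lib.Helper12.TC.Fi23o31671
  Cfsg.Agent.Lib.Helper12.TC.Fi23Pres Cfsg.Agent.Lib.Helper12.Ord Cfsg.Agent.Lib.Helper12.TCG
  Cfsg.Agent.Lib.Helper12.Ord.Fi23Simple Cfsg.Agent.Lib.Helper12.Ord.Fi23Transp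
  Cfsg.Agent.Lib.Helper12.M23Ext Cfsg.Agent.Lib.Helper12.SylFi23.Base Cfsg.Agent.Lib.Helper12.SylFi23.IotaDef

theorem chk1_0 : allListK EPres.relsE (chkQ 30560) = true := by decide +kernel
theorem chk1_1 : allListK EPres.relsE (chkQ 29986) = true := by decide +kernel
theorem chk1_2 : allListK EPres.relsE (chkQ 29985) = true := by decide +kernel
theorem chk1_3 : allListK EPres.relsE (chkQ 29982) = true := by decide +kernel
theorem chk1_4 : allListK EPres.relsE (chkQ 29983) = true := by decide +kernel
theorem chk1_5 : allListK EPres.relsE (chkQ 29984) = true := by decide +kernel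
theorem chk1_6 : allListK EPres.relsE (chkQ 29987) = true := by decide +kernel
theorem chk1_7 : allListK EPres.relsE (chkQ 5385) = true := by decide +kernel
theorem chk1_8 : allListK EPres.relsE (chkQ 29981) = true := by decide +kernel
theorem chk1_9 : allListK EPres.relsE (chkQ 29988) = true := by decide +kernel

theorem chk1 : ∀ q ∈ qpts, allListK EPres.relsE (chkQ q) = true := by
  intro q hq
  simp only [qpts, List.mem_cons, List.mem_nil_iff, or_false] at hq
  rcases hq with rfl | rfl | rfl | rfl | rfl | rfl | rfl | rfl | rfl | rfl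
  exacts [chk1_0, chk1_1, chk1_2, chk1_3, chk1_4, chk1_5, chk1_6, chk1_7, chk1_8, chk1_9]

theorem chk2_a : allListK qpts (fun q => allListK EPres.pairsE (chkQ q)) = true := by decide +kernel

theorem chk2 : ∀ q ∈ qpts, allListK EPres.pairsE (chkQ q) = true := (allListK_iff _ _).mp chk2_a

theorem chk3_a : allListK qpts (fun q => allListK EPres.dsqE (chkQ q)) = true := by decide +kernel

theorem chk3 : ∀ q ∈ qpts, allListK EPres.dsqE (chkQ q) = true := (allListK_iff _ _).mp chk3_a

theorem chk6_a : allListK qpts (fun q => allListK EPres.golE (chkQ q)) = true := by decide +kernel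

theorem chk6 : ∀ q ∈ qpts, allListK EPres.golE (chkQ q) = true := (allListK_iff _ _).mp chk6_a

end Cfsg.Agent.Lib.Helper12.SylFi23.IotaChkA
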