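import Cfsg.Agent.Lib.Helper12.SylFi23.Base
import Cfsg.Agent.Lib.Helper12.M23Ext.EPres
import Cfsg.Agent.Lib.Helper12.TC.Fn.Marks

/-!
The words of the images of the letters of the presented extension of the group of Mathieu of degree `23` in the
presented group Fi23, and the check of a relator at a point (generated, helper12).
-/

set_option autoImplicit false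
set_option maxRecDepth 100000

namespace Cfsg.Agent.Lib.Helper12.SylFi23.IotaDef

open Cfsg.Spor Cfsg.Agent.Lib.Helper12.TC Cfsg.Agent.Lib.Helper12.TC.Fi23o31671
  Cfsg.Agent.Lib.Helper12.TC.Fi23Pres Cfsg.Agent.Lib.Helper12.Ord Cfsg.Agent.Lib.Helper12.TCG
  Cfsg.Agent.Lib.Helper12.Ord.Fi23Simple Cfsg.Agent.Lib.Helper12.Ord.Fi23Transp
  Cfsg.Agent.Lib.Helper12.M23Ext Cfsg.Agent.Lib.Helper12.SylFi23.Base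

/-- the words of the images of the letters -/
def wletL : List (List ℕ) :=
  [[2, 3, 4, 1, 2, 3, 8, 0, 1, 2, 3, 4, 5, 6, 7, 10, 7, 6, 5, 4, 3, 2, 1, 0, 8, 3, 2, 1, 4, 3, 2, 2, 3, 8, 7, 6, 
   4, 5, 2, 3, 4, 1, 2, 3, 8, 9, 3, 4, 1, 2, 3, 8, 0, 1, 2, 3, 4, 5, 6, 7, 10, 7, 6, 5, 4, 3, 2, 1, 0, 8, 3, 
   2, 1, 4, 3, 9, 8, 3, 2, 1, 4, 3, 2, 5, 4, 6, 7, 8, 3, 2, 7, 6, 5, 4, 3, 8, 2, 3, 4, 5, 6, 7, 10, 7, 6, 5, 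
   4, 3, 2, 8, 3, 4, 5, 6, 7, 9, 7, 6, 5, 4, 2, 3, 8, 0, 1, 2, 3, 4, 5, 6, 7, 10, 7, 6, 5, 4, 3, 2, 1, 0, 8, 
   3, 2, 4, 5, 6, 7, 9, 9, 8, 3, 4, 1, 2, 3, 8, 9, 7, 6, 4, 5, 3, 4, 2, 3, 8, 0, 1, 2, 3, 4, 5, 6, 7, 10, 7, 
   6, 5, 4, 3, 2, 1, 0, 8, 3, 2, 4, 3, 5, 4, 6, 7, 9, 8, 3, 2, 1, 4, 3, 8, 9],
   [8, 3, 4, 1, 2, 3, 8, 9, 3, 4, 1, 2, 3, 8, 0, 1, 2, 3, 4, 5, 6, 7, 10, 7, 6, 5, 4, 3, 2, 1, 0, 8, 3, 2, 1, 4, 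
   3, 9, 8, 3, 2, 1, 4, 3, 8, 7, 6, 4, 5, 3, 4, 1, 2, 3, 8, 9, 5, 4, 1, 2, 3, 8, 0, 1, 2, 3, 4, 5, 6, 7, 10, 
   7, 6, 5, 4, 3, 2, 1, 0, 8, 3, 2, 1, 4, 5, 9, 8, 3, 2, 1, 4, 3, 5, 4, 6, 7, 9, 8, 5, 3, 4, 2, 3, 8, 9, 5, 
   4, 2, 3, 8, 0, 1, 2, 3, 4, 5, 6, 7, 10, 7, 6, 5, 4, 3, 2, 1, 0, 8, 3, 2, 4, 5, 9, 8, 3, 2, 4, 3, 5, 8, 9, 
   9, 8, 3, 4, 2, 3, 8, 9, 4, 5, 3, 4, 2, 3, 8, 0, 1, 2, 3, 4, 5, 6, 7, 10, 7, 6, 5, 4, 3, 2, 1, 0, 8, 3, 2, 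
   4, 3, 5, 4, 9, 8, 3, 2, 4, 3, 8, 9, 8, 3, 4, 2, 3, 8, 9, 7, 6, 5, 3, 4, 2, 3, 8, 1, 2, 3, 4, 5, 6, 7, 10, 
   7, 6, 5, 4, 3, 2, 1, 8, 3, 2, 4, 3, 5, 6, 7, 9, 8, 3, 2, 4, 3, 8, 2, 3, 4, 0, 1, 2, 3, 8, 9, 8, 7, 6, 5, 
   3, 4, 2, 3, 8, 0, 1, 2, 3, 4, 5, 6, 7, 10, 7, 6, 5, 4, 3, 2, 1, 0, 8, 3, 2, 4, 3, 5, 6, 7, 8, 9, 8, 3, 2, 
   1, 0, 4, 3, 2, 8, 2, 3, 4, 0, 1, 2, 3, 8, 9, 3, 8, 7, 6, 5, 2, 3, 4, 1, 2, 3, 8, 0, 1, 2, 3, 4, 5, 6, 7, 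
   10, 7, 6, 5, 4, 3, 2, 1, 0, 8, 3, 2, 1, 4, 3, 2, 5, 6, 7, 8, 3, 9, 8, 3, 2, 1, 0, 4, 3, 2, 8],
   [8, 2, 3, 4, 0, 1, 2, 3, 8, 9, 3, 8, 7, 6, 5, 2, 3, 4, 1, 2, 3, 8, 0, 1, 2, 3, 4, 5, 6, 7, 10, 7, 6, 5, 4, 3, 
   2, 1, 0, 8, 3, 2, 1, 4, 3, 2, 5, 6, 7, 8, 3, 9, 8, 3, 2, 1, 0, 4, 3, 2, 8, 2, 3, 4, 0, 1, 2, 3, 8, 9, 8, 
   7, 6, 5, 3, 4, 2, 3, 8, 0, 1, 2, 3, 4, 5, 6, 7, 10, 7, 6, 5, 4, 3, 2, 1, 0, 8, 3, 2, 4, 3, 5, 6, 7, 8, 9, 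
   8, 3, 2, 1, 0, 4, 3, 2, 8, 3, 4, 2, 3, 8, 9, 7, 6, 5, 3, 4, 2, 3, 8, 1, 2, 3, 4, 5, 6, 7, 10, 7, 6, 5, 4, 
   3, 2, 1, 8, 3, 2, 4, 3, 5, 6, 7, 9, 8, 3, 2, 4, 3, 8, 9, 8, 3, 4, 2, 3, 8, 9, 4, 5, 3, 4, 2, 3, 8, 0, 1, 
   2, 3, 4, 5, 6, 7, 10, 7, 6, 5, 4, 3, 2, 1, 0, 8, 3, 2, 4, 3, 5, 4, 9, 8, 3, 2, 4, 3, 8, 9, 9, 8, 5, 3, 4, 
   2, 3, 8, 9, 5, 4, 2, 3, 8, 0, 1, 2, 3, 4, 5, 6, 7, 10, 7, 6, 5, 4, 3, 2, 1, 0, 8, 3, 2, 4, 5, 9, 8, 3, 2, 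
   4, 3, 5, 8, 9, 7, 6, 4, 5, 3, 4, 1, 2, 3, 8, 9, 5, 4, 1, 2, 3, 8, 0, 1, 2, 3, 4, 5, 6, 7, 10, 7, 6, 5, 4, 
   3, 2, 1, 0, 8, 3, 2, 1, 4, 5, 9, 8, 3, 2, 1, 4, 3, 5, 4, 6, 7, 8, 3, 4, 1, 2, 3, 8, 9, 3, 4, 1, 2, 3, 8, 
   0, 1, 2, 3, 4, 5, 6, 7, 10, 7, 6, 5, 4, 3, 2, 1, 0, 8, 3, 2, 1, 4, 3, 9, 8, 3, 2, 1, 4, 3, 8],
   [3, 4, 5, 6, 7, 10, 7, 6, 5, 4, 3, 8, 5, 6, 4, 5, 2, 3, 4, 1, 2, 3, 8, 9, 8, 3, 4, 2, 3, 8, 0, 1, 2, 3, 4, 5, 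
   6, 7, 10, 7, 6, 5, 4, 3, 2, 1, 0, 8, 3, 2, 4, 3, 8, 9, 8, 3, 2, 1, 4, 3, 2, 5, 4, 6, 5, 8, 8, 3, 4, 1, 2, 
   3, 8, 9, 3, 4, 1, 2, 3, 8, 0, 1, 2, 3, 4, 5, 6, 7, 10, 7, 6, 5, 4, 3, 2, 1, 0, 8, 3, 2, 1, 4, 3, 9, 8, 3, 
   2, 1, 4, 3, 8, 9, 7, 6, 5, 4, 3, 8, 5, 2, 3, 4, 1, 2, 3, 8, 9, 3, 4, 5, 2, 3, 4, 1, 2, 3, 8, 0, 1, 2, 3, 
   4, 5, 6, 7, 10, 7, 6, 5, 4, 3, 2, 1, 0, 8, 3, 2, 1, 4, 3, 2, 5, 4, 3, 9, 8, 3, 2, 1, 4, 3, 2, 5, 8, 3, 4, 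
   5, 6, 7, 9, 8, 5, 6, 4, 5, 3, 4, 1, 2, 3, 8, 9, 3, 4, 1, 2, 3, 8, 0, 1, 2, 3, 4, 5, 6, 7, 10, 7, 6, 5, 4, 
   3, 2, 1, 0, 8, 3, 2, 1, 4, 3, 9, 8, 3, 2, 1, 4, 3, 5, 4, 6, 5, 8, 9, 0, 1, 2, 3, 8, 4, 5, 3, 4, 2, 3, 8, 
   9, 2, 3, 4, 1, 2, 3, 8, 0, 1, 2, 3, 4, 5, 6, 7, 10, 7, 6, 5, 4, 3, 2, 1, 0, 8, 3, 2, 1, 4, 3, 2, 9, 8, 3, 
   2, 4, 3, 5, 4, 8, 3, 2, 1, 0, 9, 9, 7, 6, 5, 4, 2, 3, 8, 0, 1, 2, 3, 4, 5, 6, 7, 10, 7, 6, 5, 4, 3, 2, 1, 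
   0, 8, 3, 2, 4, 5, 6, 7, 9, 8, 9, 7, 6, 5, 4, 3, 8, 0, 1, 2, 3, 4, 5, 6, 7, 10, 7, 6, 5, 4, 3, 2, 1, 0, 8, 
   3, 4, 5, 6, 7, 9, 8, 8, 2, 3, 4, 1, 2, 3, 8, 9, 8, 7, 6, 5, 3, 4, 2, 3, 8, 0, 1, 2, 3, 4, 5, 6, 7, 10, 7, 
   6, 5, 4, 3, 2, 1, 0, 8, 3, 2, 4, 3, 5, 6, 7, 8, 9, 8, 3, 2, 1, 4, 3, 2, 8],
   [8, 2, 3, 4, 1, 2, 3, 8, 9, 8, 7, 6, 5, 3, 4, 2, 3, 8, 0, 1, 2, 3, 4, 5, 6, 7, 10, 7, 6, 5, 4, 3, 2, 1, 0, 8, 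
   3, 2, 4, 3, 5, 6, 7, 8, 9, 8, 3, 2, 1, 4, 3, 2, 8, 8, 9, 7, 6, 5, 4, 3, 8, 0, 1, 2, 3, 4, 5, 6, 7, 10, 7, 
   6, 5, 4, 3, 2, 1, 0, 8, 3, 4, 5, 6, 7, 9, 8, 9, 7, 6, 5, 4, 2, 3, 8, 0, 1, 2, 3, 4, 5, 6, 7, 10, 7, 6, 5, 
   4, 3, 2, 1, 0, 8, 3, 2, 4, 5, 6, 7, 9, 9, 0, 1, 2, 3, 8, 4, 5, 3, 4, 2, 3, 8, 9, 2, 3, 4, 1, 2, 3, 8, 0, 
   1, 2, 3, 4, 5, 6, 7, 10, 7, 6, 5, 4, 3, 2, 1, 0, 8, 3, 2, 1, 4, 3, 2, 9, 8, 3, 2, 4, 3, 5, 4, 8, 3, 2, 1, 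
   0, 9, 8, 5, 6, 4, 5, 3, 4, 1, 2, 3, 8, 9, 3, 4, 1, 2, 3, 8, 0, 1, 2, 3, 4, 5, 6, 7, 10, 7, 6, 5, 4, 3, 2, 
   1, 0, 8, 3, 2, 1, 4, 3, 9, 8, 3, 2, 1, 4, 3, 5, 4, 6, 5, 8, 9, 7, 6, 5, 4, 3, 8, 5, 2, 3, 4, 1, 2, 3, 8, 
   9, 3, 4, 5, 2, 3, 4, 1, 2, 3, 8, 0, 1, 2, 3, 4, 5, 6, 7, 10, 7, 6, 5, 4, 3, 2, 1, 0, 8, 3, 2, 1, 4, 3, 2, 
   5, 4, 3, 9, 8, 3, 2, 1, 4, 3, 2, 5, 8, 3, 4, 5, 6, 7, 9, 8, 3, 4, 1, 2, 3, 8, 9, 3, 4, 1, 2, 3, 8, 0, 1, 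
   2, 3, 4, 5, 6, 7, 10, 7, 6, 5, 4, 3, 2, 1, 0, 8, 3, 2, 1, 4, 3, 9, 8, 3, 2, 1, 4, 3, 8, 8, 5, 6, 4, 5, 2, 
   3, 4, 1, 2, 3, 8, 9, 8, 3, 4, 2, 3, 8, 0, 1, 2, 3, 4, 5, 6, 7, 10, 7, 6, 5, 4, 3, 2, 1, 0, 8, 3, 2, 4, 3, 
   8, 9, 8, 3, 2, 1, 4, 3, 2, 5, 4, 6, 5, 8, 3, 4, 5, 6, 7, 10, 7, 6, 5, 4, 3],
   [7, 6, 5, 4, 3, 8, 2, 3, 4, 5, 6, 7, 10, 7, 6, 5, 4, 3, 2, 8, 3, 4, 5, 6, 7],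
   [9, 7, 6, 5, 4, 2, 3, 8, 0, 1, 2, 3, 4, 5, 6, 7, 10, 7, 6, 5, 4, 3, 2, 1, 0, 8, 3, 2, 4, 5, 6, 7, 9],
   [8, 9, 7, 6, 5, 4, 2, 3, 8, 1, 2, 3, 4, 5, 6, 7, 10, 7, 6, 5, 4, 3, 2, 1, 8, 3, 2, 4, 5, 6, 7, 9, 8],
   [3, 4, 0, 1, 2, 3, 8, 9, 3, 8, 7, 6, 5, 2, 3, 4, 1, 2, 3, 8, 0, 1, 2, 3, 4, 5, 6, 7, 10, 7, 6, 5, 4, 3, 2, 1, 
   0, 8, 3, 2, 1, 4, 3, 2, 5, 6, 7, 8, 3, 9, 8, 3, 2, 1, 0, 4, 3],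
   [8, 2, 3, 4, 1, 2, 3, 8, 9, 8, 7, 6, 5, 3, 4, 2, 3, 8, 0, 1, 2, 3, 4, 5, 6, 7, 10, 7, 6, 5, 4, 3, 2, 1, 0, 8, 
   3, 2, 4, 3, 5, 6, 7, 8, 9, 8, 3, 2, 1, 4, 3, 2, 8],
   [3, 4, 2, 3, 8, 9, 7, 6, 5, 3, 4, 2, 3, 8, 0, 1, 2, 3, 4, 5, 6, 7, 10, 7, 6, 5, 4, 3, 2, 1, 0, 8, 3, 2, 4, 3, 
   5, 6, 7, 9, 8, 3, 2, 4, 3],
   [9, 7, 6, 5, 4, 3, 8, 1, 2, 3, 4, 5, 6, 7, 10, 7, 6, 5, 4, 3, 2, 1, 8, 3, 4, 5, 6, 7, 9],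
   [7, 6, 5, 4, 1, 2, 3, 8, 0, 1, 2, 3, 4, 5, 6, 7, 10, 7, 6, 5, 4, 3, 2, 1, 0, 8, 3, 2, 1, 4, 5, 6, 7],
   [8, 3, 4, 1, 2, 3, 8, 9, 3, 8, 7, 6, 5, 2, 3, 4, 1, 2, 3, 8, 0, 1, 2, 3, 4, 5, 6, 7, 10, 7, 6, 5, 4, 3, 2, 1, 
   0, 8, 3, 2, 1, 4, 3, 2, 5, 6, 7, 8, 3, 9, 8, 3, 2, 1, 4, 3, 8],
   [3, 4, 1, 2, 3, 8, 9, 8, 7, 6, 5, 3, 4, 2, 3, 8, 0, 1, 2, 3, 4, 5, 6, 7, 10, 7, 6, 5, 4, 3, 2, 1, 0, 8, 3, 2, 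
   4, 3, 5, 6, 7, 8, 9, 8, 3, 2, 1, 4, 3],
   [9, 8, 3, 4, 1, 2, 3, 8, 9, 7, 6, 4, 5, 3, 4, 2, 3, 8, 0, 1, 2, 3, 4, 5, 6, 7, 10, 7, 6, 5, 4, 3, 2, 1, 0, 8, 
   3, 2, 4, 3, 5, 4, 6, 7, 9, 8, 3, 2, 1, 4, 3, 8, 9],
   [8, 3, 4, 2, 3, 8, 9, 7, 6, 5, 3, 4, 2, 3, 8, 1, 2, 3, 4, 5, 6, 7, 10, 7, 6, 5, 4, 3, 2, 1, 8, 3, 2, 4, 3, 5, 
   6, 7, 9, 8, 3, 2, 4, 3, 8],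
   [8, 2, 3, 4, 0, 1, 2, 3, 8, 9, 3, 8, 7, 6, 5, 2, 3, 4, 1, 2, 3, 8, 0, 1, 2, 3, 4, 5, 6, 7, 10, 7, 6, 5, 4, 3, 
   2, 1, 0, 8, 3, 2, 1, 4, 3, 2, 5, 6, 7, 8, 3, 9, 8, 3, 2, 1, 0, 4, 3, 2, 8],
   [2, 3, 4, 0, 1, 2, 3, 8, 9, 8, 7, 6, 5, 3, 4, 2, 3, 8, 0, 1, 2, 3, 4, 5, 6, 7, 10, 7, 6, 5, 4, 3, 2, 1, 0, 8, 
   3, 2, 4, 3, 5, 6, 7, 8, 9, 8, 3, 2, 1, 0, 4, 3, 2],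
   [8, 3, 4, 2, 3, 8, 9, 7, 6, 4, 5, 3, 4, 2, 3, 8, 0, 1, 2, 3, 4, 5, 6, 7, 10, 7, 6, 5, 4, 3, 2, 1, 0, 8, 3, 2, 
   4, 3, 5, 4, 6, 7, 9, 8, 3, 2, 4, 3, 8],
   [3, 8, 5, 2, 3, 4, 1, 2, 3, 8, 6, 7, 5, 6, 4, 5, 3, 4, 2, 3, 8, 1, 2, 3, 4, 5, 6, 7, 10, 7, 6, 5, 4, 3, 2, 1, 
   8, 3, 2, 4, 3, 5, 4, 6, 5, 7, 6, 8, 3, 2, 1, 4, 3, 2, 5, 8, 3],
   [9, 8, 1, 2, 3, 4, 0, 1, 2, 3, 8, 9, 3, 8, 7, 6, 5, 2, 3, 4, 1, 2, 3, 8, 0, 1, 2, 3, 4, 5, 6, 7, 10, 7, 6, 5, 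
   4, 3, 2, 1, 0, 8, 3, 2, 1, 4, 3, 2, 5, 6, 7, 8, 3, 9, 8, 3, 2, 1, 0, 4, 3, 2, 1, 8, 9],
   [2, 3, 4, 1, 2, 3, 8, 9, 3, 8, 7, 6, 5, 2, 3, 4, 1, 2, 3, 8, 0, 1, 2, 3, 4, 5, 6, 7, 10, 7, 6, 5, 4, 3, 2, 1, 
   0, 8, 3, 2, 1, 4, 3, 2, 5, 6, 7, 8, 3, 9, 8, 3, 2, 1, 4, 3, 2],
   [3, 4, 2, 3, 8, 9, 7, 6, 4, 5, 3, 4, 2, 3, 8, 1, 2, 3, 4, 5, 6, 7, 10, 7, 6, 5, 4, 3, 2, 1, 8, 3, 2, 4, 3, 5, 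
   4, 6, 7, 9, 8, 3, 2, 4, 3],
   [10],
   [5, 4, 3, 8, 2, 3, 4, 1, 2, 3, 8, 7, 5, 6, 4, 5, 3, 4, 2, 3, 8, 1, 2, 3, 4, 5, 6, 7, 10, 7, 6, 5, 4, 3, 2, 1, 
   8, 3, 2, 4, 3, 5, 4, 6, 5, 7, 8, 3, 2, 1, 4, 3, 2, 8, 3, 4, 5],
   [8, 9, 7, 6, 5, 4, 3, 8, 0, 1, 2, 3, 4, 5, 6, 7, 10, 7, 6, 5, 4, 3, 2, 1, 0, 8, 3, 4, 5, 6, 7, 9, 8],
   [9, 8, 3, 4, 2, 3, 8, 9, 3, 8, 7, 6, 5, 2, 3, 4, 1, 2, 3, 8, 0, 1, 2, 3, 4, 5, 6, 7, 10, 7, 6, 5, 4, 3, 2, 1, 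
   0, 8, 3, 2, 1, 4, 3, 2, 5, 6, 7, 8, 3, 9, 8, 3, 2, 4, 3, 8, 9]]

/-- the word of the image of a letter -/
def wlet (x : ℕ) : List ℕ := wletL.getD x []

theorem wlet_lt : ∀ x < 28, ∀ s ∈ wlet x, s < 27 := by decide +kernel

/-- substitution of words for letters -/
theorem wprod_subst {G : Type*} [Group G] (u : ℕ → G) (sub : ℕ → List ℕ) (b : List ℕ) :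
    wprod (fun s => wprod u (sub s)) b = wprod u (b.flatMap sub) := by
  induction b with
  | nil => rfl
  | cons s l ih => rw [wprod_cons, List.flatMap_cons, wprod_append, ih]

/-- the action of a word on a point: the first letter acts first, the point is evaluated at every step -/
def applyF (T : ℕ → ℕ → ℕ) (l : List ℕ) : ℕ → ℕ :=
  @List.rec ℕ (fun _ => ℕ → ℕ) (fun i => i) (fun x _ ih => fun i => forceN (T x i) ih) l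

theorem applyF_nil (T : ℕ → ℕ → ℕ) (i : ℕ) : applyF T [] i = i := rfl

theorem applyF_cons (T : ℕ → ℕ → ℕ) (x : ℕ) (l : List ℕ) (i : ℕ) :
    applyF T (x :: l) i = applyF T l (T x i) := by
  show forceN (T x i) (applyF T l) = _
  rw [forceN_eq]

theorem applyF_eq (T : ℕ → ℕ → ℕ) (l : List ℕ) (i : ℕ) : applyF T l i = Fn.applyW T l.reverse i := by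
  induction l generalizing i with
  | nil => rfl
  | cons x l ih =>
    rw [applyF_cons, ih, List.reverse_cons, Fn.applyW_append]
    rfl

/-- the check of a relator at a point -/
noncomputable def chkQ (q : ℕ) (b : List ℕ) : Bool :=
  Nat.beq (applyF TT (b.flatMap wlet).reverse q) q

theorem chkQ_spec {q : ℕ} {b : List ℕ} (h : chkQ q b = true) : Fn.applyW TT (b.flatMap wlet) q = q := by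
  have h1 := Nat.eq_of_beq_eq_true h
  rwa [applyF_eq, List.reverse_reverse] at h1

end Cfsg.Agent.Lib.Helper12.SylFi23.IotaDef
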